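import Groth.Prelude.Def_AlgSp2
import Groth.Agent.AlgSpLib.Points
import Groth.Agent.AlgSpLib.Sheaf

/-!
# Affine charts of algebraic spaces
-/

set_option autoImplicit false
set_option backward.isDefEq.respectTransparency.types false

universe u

open CategoryTheory CategoryTheory.Limits AlgebraicGeometry Opposite AlgSp

namespace Groth.Agent.EtGlueSp

variable {S : Scheme.{u}}

/-- Composing an étale chart with an étale morphism. -/
theorem repWith_etale_comp {U V : Over S} (j : V ⟶ U) [Etale j.left] {X : Sp S} {p : (yon S).obj U ⟶ X}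
    (hp : RepWith @Etale p) : RepWith @Etale ((yon S).map j ≫ p) :=
  MorphismProperty.comp_mem _ _ _ ((repWith_yon_map_iff @Etale j).2 ‹_›) hp

/-- Affine étale charts through a geometric refinement of any field valued point. -/
theorem exists_chart {X : Sp S} (hX : IsAlgSpace X) {K : Type u} [Field K] (s : Spec (CommRingCat.of K) ⟶ S)
    (z : (yon S).obj (Over.mk s) ⟶ X) :
    ∃ (Ω : Type u) (_ : Field Ω) (i : K →+* Ω) (V : Over S) (c : (yon S).obj V ⟶ X)
      (g₀ : Over.mk (Spec.map (CommRingCat.ofHom i) ≫ s) ⟶ V), IsAffine V.left ∧ RepWith @Etale c ∧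
      (yon S).map g₀ ≫ c = (yon S).map (Over.homMk (Spec.map (CommRingCat.ofHom i))) ≫ z := by
  obtain ⟨U, p, hpe, hps⟩ := hX.atlas
  let P := hpe.rep.pullback z
  have : Surjective (hpe.rep.snd z).left := hps.property_snd z
  obtain ⟨q, -⟩ := (hpe.rep.snd z).left.surjective (IsLocalRing.closedPoint K)
  let O := exists_isAffineOpen_mem_and_subset (U := (⊤ : U.left.Opens)) (x := (hpe.rep.fst' z).left q) trivial
  obtain ⟨W, hW, hqW, -⟩ := O
  let V : Over S := Over.mk (W.ι ≫ U.hom)
  let j : V ⟶ U := Over.homMk W.ι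
  have : Etale j.left := inferInstanceAs (Etale W.ι)
  let r : Spec (P.left.residueField q) ⟶ Spec (CommRingCat.of K) :=
    P.left.fromSpecResidueField q ≫ (hpe.rep.snd z).left
  let m : Spec (P.left.residueField q) ⟶ U.left := P.left.fromSpecResidueField q ≫ (hpe.rep.fst' z).left
  have hrange : Set.range m ⊆ Set.range W.ι := by
    rintro _ ⟨x, rfl⟩
    rw [Scheme.Opens.range_ι]
    show (hpe.rep.fst' z).left (P.left.fromSpecResidueField q x) ∈ W
    rwa [Scheme.fromSpecResidueField_apply]
  refine ⟨P.left.residueField q, inferInstance, (Spec.preimage r).hom, V, (yon S).map j ≫ p, ?_, hW,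
    repWith_etale_comp j hpe, ?_⟩
  · refine Over.homMk (IsOpenImmersion.lift W.ι m hrange) ?_
    show _ ≫ W.ι ≫ U.hom = Spec.map (Spec.preimage r) ≫ s
    rw [IsOpenImmersion.lift_fac_assoc, Spec.map_preimage]
    exact (Category.assoc _ _ _).trans ((congrArg (_ ≫ ·) ((Over.w (hpe.rep.fst' z)).trans
      (Over.w (hpe.rep.snd z)).symm)).trans (Category.assoc _ _ _).symm)
  · let w : Over.mk (Spec.map (CommRingCat.ofHom (Spec.preimage r).hom) ≫ s) ⟶ P :=
      Over.homMk (P.left.fromSpecResidueField q) (by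
        show _ = Spec.map (Spec.preimage r) ≫ s
        rw [Spec.map_preimage]
        exact ((Category.assoc _ _ _).trans (congrArg (_ ≫ ·) (Over.w (hpe.rep.snd z)))).symm)
    have h1 : (yon S).map w ≫ hpe.rep.fst z ≫ p = (yon S).map w ≫ (yon S).map (hpe.rep.snd z) ≫ z := by
      rw [hpe.rep.w z]
    rw [← Category.assoc, ← hpe.rep.map_fst' z, ← Functor.map_comp, ← Category.assoc, ← Functor.map_comp] at h1
    rw [← Category.assoc, ← Functor.map_comp]
    convert h1 using 3
    · ext1
      exact IsOpenImmersion.lift_fac _ _ hrange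
    · ext1
      show Spec.map (Spec.preimage r) = _
      rw [Spec.map_preimage]
      rfl

/-- Affine schemes over the base, as spectra. -/
theorem exists_affine_family {X : Sp S} (hX : IsAlgSpace X) :
    ∃ (U : Over S) (p : (yon S).obj U ⟶ X) (_ : RepWith @Etale p) (_ : RepWith @Surjective p)
      (ι : Type u) (A : ι → CommRingCat.{u}) (str : ∀ k, Spec (A k) ⟶ S) (j : ∀ k, Over.mk (str k) ⟶ U),
      (∀ k, IsOpenImmersion (j k).left) ∧ ∀ x : U.left, ∃ k, x ∈ Set.range (j k).left := by
  obtain ⟨U, p, hpe, hps⟩ := hX.atlas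
  refine ⟨U, p, hpe, hps, U.left.affineOpens, fun O => Γ(U.left, O.1), fun O => O.2.fromSpec ≫ U.hom,
    fun O => Over.homMk O.2.fromSpec, fun O => (inferInstance : IsOpenImmersion O.2.fromSpec), fun x => ?_⟩
  obtain ⟨W, hW, hxW, -⟩ := exists_isAffineOpen_mem_and_subset (U := (⊤ : U.left.Opens)) (x := x) trivial
  refine ⟨⟨W, hW⟩, ?_⟩
  show x ∈ Set.range hW.fromSpec
  rw [hW.range_fromSpec]
  exact hxW

end Groth.Agent.EtGlueSp
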