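import Groth.Agent.EtGlue7.Alg
import Groth.Agent.EtGlue7.Glueing

/-!
# Glueing pairs: ring level lemmas for glueing algebraic spaces
-/

set_option autoImplicit false

universe u

open TensorProduct

namespace Groth.Agent.EtGlueSp

attribute [local instance] Algebra.TensorProduct.rightAlgebra

variable {A A' : Type u} [CommRing A] [CommRing A'] [Algebra A A'] {g : A}

theorem eq_of_eq (hp : EtGlue.IsGlueingPair A A' g) {a b : A}
    (h₁ : algebraMap A (Localization.Away g) a = algebraMap A (Localization.Away g) b)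
    (h₂ : algebraMap A A' a = algebraMap A A' b) : a = b :=
  hp.2.1 (Prod.ext h₂ h₁)

theorem hom_ext (hp : EtGlue.IsGlueingPair A A' g) {C : Type u} [CommRing C] {φ ψ : C →+* A}
    (h₁ : (algebraMap A (Localization.Away g)).comp φ = (algebraMap A (Localization.Away g)).comp ψ)
    (h₂ : (algebraMap A A').comp φ = (algebraMap A A').comp ψ) : φ = ψ :=
  RingHom.ext fun c => eq_of_eq hp (congr($h₁ c)) (congr($h₂ c))

theorem exists_hom (hp : EtGlue.IsGlueingPair A A' g) {C : Type u} [CommRing C]
    (φ₁ : C →+* Localization.Away g) (φ₂ : C →+* A')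
    (h : (algebraMap A' (Localization.Away (algebraMap A A' g))).comp φ₂ =
      (Localization.awayMap (algebraMap A A') g).comp φ₁) :
    ∃ φ : C →+* A, (algebraMap A (Localization.Away g)).comp φ = φ₁ ∧ (algebraMap A A').comp φ = φ₂ := by
  choose a ha₂ ha₁ using fun c => hp.2.2.1 (φ₂ c) (φ₁ c) congr($h c)
  refine ⟨{ toFun := a
            map_one' := eq_of_eq hp (by simp [ha₁]) (by simp [ha₂])
            map_zero' := eq_of_eq hp (by simp [ha₁]) (by simp [ha₂])
            map_mul' := fun x y => eq_of_eq hp (by simp [ha₁]) (by simp [ha₂])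
            map_add' := fun x y => eq_of_eq hp (by simp [ha₁]) (by simp [ha₂]) },
    RingHom.ext ha₁, RingHom.ext ha₂⟩

theorem exists_idempotent (hp : EtGlue.IsGlueingPair A A' g) {e₁ : Localization.Away g} {e₂ : A'}
    (h₁ : IsIdempotentElem e₁) (h₂ : IsIdempotentElem e₂)
    (h : algebraMap A' (Localization.Away (algebraMap A A' g)) e₂ = Localization.awayMap (algebraMap A A') g e₁) :
    ∃ e : A, IsIdempotentElem e ∧ algebraMap A (Localization.Away g) e = e₁ ∧ algebraMap A A' e = e₂ := by
  obtain ⟨e, he₂, he₁⟩ := hp.2.2.1 e₂ e₁ h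
  exact ⟨e, eq_of_eq hp (by rw [map_mul, he₁]; exact h₁) (by rw [map_mul, he₂]; exact h₂), he₁, he₂⟩

/-- Injectivity on torsion for flat algebras. -/
theorem torsion_injective_of_flat (hp : EtGlue.IsGlueingPair A A' g) (B : Type u) [AddCommGroup B] [Module A B]
    [Module.Flat A B] (b : B) (hb : ∃ n : ℕ, g ^ n • b = 0) (hb' : (1 : A') ⊗ₜ[A] b = 0) : b = 0 := by
  obtain ⟨n, hn⟩ := hb
  let μ : A →ₗ[A] A := LinearMap.lsmul A A (g ^ n)
  let K := LinearMap.ker μ
  let i : K →ₗ[A] A' := (Algebra.linearMap A A').comp K.subtype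
  have hi : Function.Injective i := by
    rw [injective_iff_map_eq_zero]
    intro k hk
    refine Subtype.ext (eq_of_eq hp ?_ (hk.trans (map_zero _).symm))
    rw [Submodule.coe_zero, map_zero]
    exact (IsLocalization.map_eq_zero_iff (Submonoid.powers g) _ _).2 ⟨⟨g ^ n, n, rfl⟩, k.2⟩
  have hex := Module.Flat.rTensor_exact B (f := K.subtype) (g := μ) μ.exact_subtype_ker_map
  have h1 : μ.rTensor B ((1 : A) ⊗ₜ[A] b) = 0 := by
    show (g ^ n • (1 : A)) ⊗ₜ[A] b = 0
    rw [TensorProduct.smul_tmul, hn, tmul_zero]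
  obtain ⟨z, hz⟩ := (hex _).1 h1
  have hz' : i.rTensor B z = 0 := by
    rw [show i = (Algebra.linearMap A A').comp K.subtype from rfl, LinearMap.rTensor_comp,
      LinearMap.comp_apply, hz]
    show algebraMap A A' 1 ⊗ₜ[A] b = 0
    rw [map_one, hb']
  have : z = 0 := Module.Flat.rTensor_preserves_injective_linearMap i hi (hz'.trans (map_zero _).symm)
  have h2 : (1 : A) ⊗ₜ[A] b = 0 := by rw [← hz, this, map_zero]
  simpa using congrArg (TensorProduct.lid A B) h2

/-- Flat modules over a glueing pair are glueable. -/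
theorem isGlueable_of_flat (hp : EtGlue.IsGlueingPair A A' g) (B : Type u) [AddCommGroup B] [Module A B]
    [Module.Flat A B] : EtGlue.IsGlueable A A' g B :=
  EtGlue7.isGlueable_of_torsion hp.1 B (torsion_injective_of_flat hp B) (EtGlue7.exists_torsion_lift B hp)

/-- The glueing pair of a flat algebra. -/
theorem glueingPair_of_flat (hp : EtGlue.IsGlueingPair A A' g) (B : Type u) [CommRing B] [Algebra A B]
    [Module.Flat A B] : EtGlue.IsGlueingPair B (A' ⊗[A] B) (algebraMap A B g) :=
  EtGlue7.glueingPair_of_isGlueable hp.1 B (isGlueable_of_flat hp B)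

variable {R R' : Type u} [CommRing R] [CommRing R'] [Algebra R R'] {f : R} [Algebra R A]

/-- Flat algebras over glueable algebras are glueable. -/
theorem isGlueable_of_flat_tower (hp : EtGlue.IsGlueingPair R R' f) (hA : EtGlue.IsGlueable R R' f A)
    (B : Type u) [CommRing B] [Algebra R B] [Algebra A B] [IsScalarTower R A B] [Module.Flat A B] :
    EtGlue.IsGlueable R R' f B := by
  have hpA := EtGlue7.glueingPair_of_isGlueable hp.1 A hA
  refine EtGlue7.isGlueable_of_torsion hp.1 B (fun b ⟨n, hn⟩ hb => ?_) (EtGlue7.exists_torsion_lift B hp)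
  refine torsion_injective_of_flat hpA B b ⟨n, ?_⟩ ?_
  · rw [← hn, Algebra.smul_def, Algebra.smul_def, map_pow, map_pow, ← IsScalarTower.algebraMap_apply]
  · apply (EtGlue7.tensorA R R' A B).injective
    rw [map_zero, Algebra.TensorProduct.one_def, EtGlue7.tensorA_tmul, one_smul, hb]

/-- Being glueable descends along a jointly faithfully flat family. -/
theorem isGlueable_of_jointly_injective (hp : EtGlue.IsGlueingPair R R' f) {κ : Type u} (B : κ → Type u)
    [∀ k, CommRing (B k)] [∀ k, Algebra R (B k)] (φ : ∀ k, A →ₐ[R] B k)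
    (hB : ∀ k, EtGlue.IsGlueable R R' f (B k)) (hinj : ∀ a : A, (∀ k, φ k a = 0) → a = 0) :
    EtGlue.IsGlueable R R' f A := by
  refine EtGlue7.isGlueable_of_torsion hp.1 A (fun a ⟨n, hn⟩ ha => hinj a fun k => ?_)
    (EtGlue7.exists_torsion_lift A hp)
  refine (EtGlue7.torsion_of_isGlueable (B k) (hB k)).1 _ ⟨n, ?_⟩ ?_
  · rw [← map_smul, hn, map_zero]
  · have := congrArg ((φ k).toLinearMap.lTensor R') ha
    rwa [LinearMap.lTensor_tmul, map_zero] at this

end Groth.Agent.EtGlueSp
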