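import Groth.Prelude.Def_AlgSp
import Mathlib.AlgebraicGeometry.Morphisms.FlatMono
import Mathlib.AlgebraicGeometry.Morphisms.Separated
import Mathlib.RingTheory.Spectrum.Prime.Topology
import Groth.Agent.EtGlueSp.Ring

/-!
# The locus where two charts agree, and glueing it along a glueing pair
-/

set_option autoImplicit false
set_option backward.isDefEq.respectTransparency.types false

universe u

open CategoryTheory CategoryTheory.Limits AlgebraicGeometry Opposite AlgSp

namespace Groth.Agent.EtGlueSp

variable {S : Scheme.{u}} {X : Sp S} {V : Over S} {c : (yon S).obj V ⟶ X}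

theorem eq_one_of_isUnit {C : Type u} [CommRing C] {e : C} (he : IsIdempotentElem e) (hu : IsUnit e) : e = 1 :=
  hu.mul_left_cancel (by rw [he.eq, mul_one])

theorem spec_eq_iff [IsAffine V.left] {B C : Type u} [CommRing B] [CommRing C] (φ : B →+* C)
    (v₁ v₂ : Spec (CommRingCat.of B) ⟶ V.left) :
    Spec.map (CommRingCat.ofHom φ) ≫ v₁ = Spec.map (CommRingCat.ofHom φ) ≫ v₂ ↔
      φ.comp (Spec.preimage (v₁ ≫ V.left.isoSpec.hom)).hom = φ.comp (Spec.preimage (v₂ ≫ V.left.isoSpec.hom)).hom := by
  rw [← cancel_mono V.left.isoSpec.hom, Category.assoc, Category.assoc,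
    ← Spec.map_preimage (v₁ ≫ V.left.isoSpec.hom), ← Spec.map_preimage (v₂ ≫ V.left.isoSpec.hom),
    ← Spec.map_comp, ← Spec.map_comp, Spec.map_inj]
  simp only [CommRingCat.hom_ext_iff, CommRingCat.hom_comp, CommRingCat.hom_ofHom, Spec.preimage_map]

/-- The locus where two lifts of the same point to an affine étale chart agree is given by an idempotent. -/
theorem exists_eqLocus [IsAffine V.left] (hc : RepWith @Etale c) {B : Type u} [CommRing B]
    (str : Spec (CommRingCat.of B) ⟶ S) (v₁ v₂ : Over.mk str ⟶ V)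
    (h : (yon S).map v₁ ≫ c = (yon S).map v₂ ≫ c) :
    ∃ e : B, IsIdempotentElem e ∧ ∀ (C : Type u) [CommRing C] (φ : B →+* C),
      (Spec.map (CommRingCat.ofHom φ) ≫ v₁.left = Spec.map (CommRingCat.ofHom φ) ≫ v₂.left ↔ φ e = 1) := by
  let k : Over.mk str ⟶ hc.rep.pullback c := hc.rep.lift' v₁ v₂ h
  let d : V ⟶ hc.rep.pullback c := hc.rep.lift' (𝟙 V) (𝟙 V) rfl
  have hd1 : d ≫ hc.rep.fst' c = 𝟙 V := Functor.relativelyRepresentable.lift'_fst ..
  have hd2 : d ≫ hc.rep.snd c = 𝟙 V := Functor.relativelyRepresentable.lift'_snd ..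
  have hk1 : k ≫ hc.rep.fst' c = v₁ := Functor.relativelyRepresentable.lift'_fst ..
  have hk2 : k ≫ hc.rep.snd c = v₂ := Functor.relativelyRepresentable.lift'_snd ..
  have : Etale (hc.rep.snd c).left := hc.property_snd c
  let π : (hc.rep.pullback c).left ⟶ pullback V.hom V.hom :=
    pullback.lift (hc.rep.fst' c).left (hc.rep.snd c).left
      ((Over.w (hc.rep.fst' c)).trans (Over.w (hc.rep.snd c)).symm)
  have : Mono π := ⟨fun {Z} a b hab => by
    have h1 : a ≫ (hc.rep.fst' c).left = b ≫ (hc.rep.fst' c).left := by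
      have := congrArg (· ≫ pullback.fst V.hom V.hom) hab
      erw [Category.assoc, Category.assoc, pullback.lift_fst] at this
      exact this
    have h2 : a ≫ (hc.rep.snd c).left = b ≫ (hc.rep.snd c).left := by
      have := congrArg (· ≫ pullback.snd V.hom V.hom) hab
      erw [Category.assoc, Category.assoc, pullback.lift_snd] at this
      exact this
    have hw : b ≫ (hc.rep.pullback c).hom = a ≫ (hc.rep.pullback c).hom := by
      rw [← Over.w (hc.rep.snd c), ← Category.assoc, ← Category.assoc, h2]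
    let a' : Over.mk (a ≫ (hc.rep.pullback c).hom) ⟶ hc.rep.pullback c := Over.homMk a
    let b' : Over.mk (a ≫ (hc.rep.pullback c).hom) ⟶ hc.rep.pullback c := Over.homMk b hw
    have hab' : a' = b' := by
      apply Functor.relativelyRepresentable.hom_ext' hc.rep
      · ext1; exact h1
      · ext1; exact h2
    exact congrArg CommaMorphism.left hab'⟩
  have : IsSeparated (hc.rep.snd c).left := by
    rw [show (hc.rep.snd c).left = π ≫ pullback.snd V.hom V.hom from (pullback.lift_snd ..).symm]
    infer_instance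
  have hd2' : d.left ≫ (hc.rep.snd c).left = 𝟙 _ := congrArg CommaMorphism.left hd2
  have : Mono d.left := mono_of_mono_fac hd2'
  have : IsOpenImmersion d.left := by
    have : Etale (d.left ≫ (hc.rep.snd c).left) := by rw [hd2']; infer_instance
    have := Etale.of_comp d.left (hc.rep.snd c).left
    exact IsOpenImmersion.of_flat_of_mono _
  have hcl : IsClosed (Set.range d.left) := by
    have : IsClosedImmersion (d.left ≫ (hc.rep.snd c).left) := by rw [hd2']; infer_instance
    have := IsClosedImmersion.of_comp d.left (hc.rep.snd c).left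
    exact d.left.isClosedEmbedding.isClosed_range
  have hop : IsOpen (Set.range d.left) := d.left.isOpenEmbedding.isOpen_range
  obtain ⟨e, he, hG⟩ := PrimeSpectrum.isClopen_iff.1
    (IsClopen.preimage (⟨hcl, hop⟩ : IsClopen (Set.range d.left)) k.left.continuous : IsClopen (k.left ⁻¹' Set.range d.left))
  refine ⟨e, he, fun C _ φ => ⟨fun heq => eq_one_of_isUnit (he.map φ) ?_, fun h1 => ?_⟩⟩
  · let a : Over.mk (Spec.map (CommRingCat.ofHom φ) ≫ str) ⟶ Over.mk str :=
      Over.homMk (Spec.map (CommRingCat.ofHom φ))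
    have ha : a ≫ v₁ = a ≫ v₂ := by ext1; exact heq
    have hak : a ≫ k = (a ≫ v₁) ≫ d := by
      apply Functor.relativelyRepresentable.hom_ext' hc.rep
      · simp only [Category.assoc, hk1, hd1, Category.comp_id]
      · simp only [Category.assoc, hk2, hd2, Category.comp_id, ha]
    by_contra hu
    obtain ⟨M, hM, hmem⟩ := exists_max_ideal_of_mem_nonunits hu
    have hq : (PrimeSpectrum.comap φ ⟨M, hM.isPrime⟩) ∈ k.left ⁻¹' Set.range d.left :=
      ⟨(a ≫ v₁).left (⟨M, hM.isPrime⟩ : PrimeSpectrum C), (congrArg (fun m => m.left (⟨M, hM.isPrime⟩ : PrimeSpectrum C)) hak).symm⟩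
    rw [hG] at hq
    exact hq hmem
  · have hr : Set.range (Spec.map (CommRingCat.ofHom φ) ≫ k.left) ⊆ Set.range d.left := by
      rintro _ ⟨q, rfl⟩
      show PrimeSpectrum.comap φ q ∈ k.left ⁻¹' Set.range d.left
      rw [hG]
      intro hm
      exact q.isPrime.ne_top ((Ideal.eq_top_iff_one _).2 (h1 ▸ hm))
    have hl := IsOpenImmersion.lift_fac d.left (Spec.map (CommRingCat.ofHom φ) ≫ k.left) hr
    have e1 : d.left ≫ (hc.rep.fst' c).left = 𝟙 _ := congrArg CommaMorphism.left hd1
    have e3 : k.left ≫ (hc.rep.fst' c).left = v₁.left := congrArg CommaMorphism.left hk1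
    have e4 : k.left ≫ (hc.rep.snd c).left = v₂.left := congrArg CommaMorphism.left hk2
    calc Spec.map (CommRingCat.ofHom φ) ≫ v₁.left
        = (IsOpenImmersion.lift d.left _ hr ≫ d.left) ≫ (hc.rep.fst' c).left := by rw [hl, Category.assoc, e3]
      _ = (IsOpenImmersion.lift d.left _ hr ≫ d.left) ≫ (hc.rep.snd c).left := by
          rw [Category.assoc, Category.assoc, e1, hd2']
      _ = Spec.map (CommRingCat.ofHom φ) ≫ v₂.left := by rw [hl, Category.assoc, e4]

variable {A A' : Type u} [CommRing A] [CommRing A'] [Algebra A A'] {g : A}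

theorem mul_eq_of_eq_away {C : Type u} [CommRing C] {e a b : C} (he : IsIdempotentElem e)
    (h : algebraMap C (Localization.Away e) a = algebraMap C (Localization.Away e) b) : e * a = e * b := by
  obtain ⟨⟨_, n, rfl⟩, hn⟩ := (IsLocalization.eq_iff_exists (Submonoid.powers e) _).1 h
  dsimp only at hn
  rcases n with _ | n
  · simp only [pow_zero, one_mul] at hn
    rw [hn]
  · rwa [he.pow_succ_eq] at hn

theorem away_self_eq_one {C : Type u} [CommRing C] {e : C} (he : IsIdempotentElem e) :
    algebraMap C (Localization.Away e) e = 1 :=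
  eq_one_of_isUnit (he.map _) (IsLocalization.Away.algebraMap_isUnit e)

theorem eq_of_locus {C : Type u} [CommRing C] {a b : C} (ha : IsIdempotentElem a) (hb : IsIdempotentElem b)
    (h : ∀ (D : Type u) [CommRing D] (φ : C →+* D), φ a = 1 ↔ φ b = 1) : a = b := by
  have h1 := mul_eq_of_eq_away ha (((h _ _).1 (away_self_eq_one ha)).trans (away_self_eq_one ha).symm)
  have h2 := mul_eq_of_eq_away hb (((h _ _).2 (away_self_eq_one hb)).trans (away_self_eq_one hb).symm)
  rw [ha.eq] at h1
  rw [hb.eq] at h2
  rw [← h1, mul_comm, h2]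

/-- Glueing the agreement locus along a glueing pair. -/
theorem exists_eqLocus_glue [IsAffine V.left] (hc : RepWith @Etale c) (hp : EtGlue.IsGlueingPair A A' g)
    (str : Spec (CommRingCat.of A) ⟶ S) (v₁ v₂ : Over.mk str ⟶ V)
    (hU : (yon S).map ((Over.homMk (Spec.map (CommRingCat.ofHom (algebraMap A (Localization.Away g)))) :
        Over.mk (Spec.map (CommRingCat.ofHom (algebraMap A (Localization.Away g))) ≫ str) ⟶ Over.mk str) ≫ v₁) ≫ c =
      (yon S).map ((Over.homMk (Spec.map (CommRingCat.ofHom (algebraMap A (Localization.Away g))))) ≫ v₂) ≫ c)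
    (h' : (yon S).map ((Over.homMk (Spec.map (CommRingCat.ofHom (algebraMap A A'))) :
        Over.mk (Spec.map (CommRingCat.ofHom (algebraMap A A')) ≫ str) ⟶ Over.mk str) ≫ v₁) ≫ c =
      (yon S).map ((Over.homMk (Spec.map (CommRingCat.ofHom (algebraMap A A')))) ≫ v₂) ≫ c) :
    ∃ e : A, IsIdempotentElem e ∧
      Spec.map (CommRingCat.ofHom (algebraMap A (Localization.Away e))) ≫ v₁.left =
        Spec.map (CommRingCat.ofHom (algebraMap A (Localization.Away e))) ≫ v₂.left ∧
      ∀ (C : Type u) [CommRing C] (φ : A →+* C), (IsUnit (φ g) ∨ ∃ ψ : A' →+* C, ψ.comp (algebraMap A A') = φ) →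
        Spec.map (CommRingCat.ofHom φ) ≫ v₁.left = Spec.map (CommRingCat.ofHom φ) ≫ v₂.left → φ e = 1 := by
  obtain ⟨e₁, he₁, hl₁⟩ := exists_eqLocus hc _ _ _ hU
  obtain ⟨e₂, he₂, hl₂⟩ := exists_eqLocus hc _ _ _ h'
  simp only [Over.comp_left, Over.homMk_left, ← Category.assoc, ← Spec.map_comp, ← CommRingCat.ofHom_comp] at hl₁ hl₂
  have hcompat : algebraMap A' (Localization.Away (algebraMap A A' g)) e₂ =
      Localization.awayMap (algebraMap A A') g e₁ := by
    refine eq_of_locus (he₂.map _) (he₁.map _) fun D _ φ => ?_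
    rw [← RingHom.comp_apply, ← RingHom.comp_apply, ← hl₂, ← hl₁]
    have : (φ.comp (algebraMap A' (Localization.Away (algebraMap A A' g)))).comp (algebraMap A A') =
        (φ.comp (Localization.awayMap (algebraMap A A') g)).comp (algebraMap A (Localization.Away g)) := by
      ext a
      simp [Localization.awayMap, IsLocalization.Away.map]
    rw [this]
  obtain ⟨e, he, hee₁, hee₂⟩ := exists_idempotent hp he₁ he₂ hcompat
  refine ⟨e, he, ?_, fun C _ φ hφ heq => ?_⟩
  · rw [spec_eq_iff]
    ext x
    have key : e * (Spec.preimage (v₁.left ≫ V.left.isoSpec.hom)).hom x =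
        e * (Spec.preimage (v₂.left ≫ V.left.isoSpec.hom)).hom x := by
      refine eq_of_eq hp ?_ ?_
      · rw [map_mul, map_mul, hee₁]
        have := (hl₁ _ (algebraMap _ (Localization.Away e₁))).2 (away_self_eq_one he₁)
        rw [spec_eq_iff] at this
        exact mul_eq_of_eq_away he₁ (RingHom.congr_fun this x)
      · rw [map_mul, map_mul, hee₂]
        have := (hl₂ _ (algebraMap _ (Localization.Away e₂))).2 (away_self_eq_one he₂)
        rw [spec_eq_iff] at this
        exact mul_eq_of_eq_away he₂ (RingHom.congr_fun this x)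
    have := congrArg (algebraMap A (Localization.Away e)) key
    rw [map_mul, map_mul, away_self_eq_one he, one_mul, one_mul] at this
    exact this
  · rcases hφ with hu | ⟨ψ, rfl⟩
    · have hlift : (IsLocalization.Away.lift g hu).comp (algebraMap A (Localization.Away g)) = φ :=
        IsLocalization.Away.lift_comp g hu
      have := (hl₁ C (IsLocalization.Away.lift g hu)).1 (by rw [hlift]; exact heq)
      rw [← hee₁, ← RingHom.comp_apply, hlift] at this
      exact this
    · rw [RingHom.comp_apply, hee₂]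
      exact (hl₂ C ψ).1 heq

end Groth.Agent.EtGlueSp
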