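import Groth.Agent.EtGlueSp.Ring
import Groth.Agent.EtGlueSp.EqLocus
import Groth.Agent.EtGlueSp.Charts
import Groth.Agent.AlgSpDec.LimFppfLocal

/-!
# Maps from a glueing pair to an algebraic space are determined on the two pieces
-/

set_option autoImplicit false
set_option backward.isDefEq.respectTransparency.types false

universe u

open CategoryTheory CategoryTheory.Limits AlgebraicGeometry Opposite AlgSp TensorProduct

namespace Groth.Agent.EtGlueSp

attribute [local instance] Algebra.TensorProduct.rightAlgebra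

variable {S : Scheme.{u}}

/-- `Spec` of a ring map as a morphism over `S`. -/
noncomputable abbrev specHom {A B : Type u} [CommRing A] [CommRing B] (φ : A →+* B)
    (str : Spec (CommRingCat.of A) ⟶ S) :
    Over.mk (Spec.map (CommRingCat.ofHom φ) ≫ str) ⟶ Over.mk str :=
  Over.homMk (Spec.map (CommRingCat.ofHom φ))

variable {X : Sp S} {A A' : Type u} [CommRing A] [CommRing A'] [Algebra A A'] {g : A}

/-- Restrictions along ring maps factoring through the same map agree. -/
theorem eq_of_factor {B C : Type u} [CommRing B] [CommRing C] {str : Spec (CommRingCat.of A) ⟶ S}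
    {x y : (yon S).obj (Over.mk str) ⟶ X} (α : A →+* B)
    (h : (yon S).map (specHom α str) ≫ x = (yon S).map (specHom α str) ≫ y) (β : B →+* C) {T : Over S}
    (m : T ⟶ Over.mk str) (γ : T.left ⟶ Spec (CommRingCat.of C))
    (hm : m.left = γ ≫ Spec.map (CommRingCat.ofHom (β.comp α))) :
    (yon S).map m ≫ x = (yon S).map m ≫ y := by
  let n : T ⟶ Over.mk (Spec.map (CommRingCat.ofHom α) ≫ str) :=
    Over.homMk (γ ≫ Spec.map (CommRingCat.ofHom β)) (by
      show (γ ≫ Spec.map (CommRingCat.ofHom β)) ≫ Spec.map (CommRingCat.ofHom α) ≫ str = T.hom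
      rw [← Over.w m, hm, CommRingCat.ofHom_comp, Spec.map_comp]
      simp only [Category.assoc, Over.mk_hom])
  have : m = n ≫ specHom α str := by
    ext1
    show m.left = (γ ≫ Spec.map (CommRingCat.ofHom β)) ≫ Spec.map (CommRingCat.ofHom α)
    rw [hm, CommRingCat.ofHom_comp, Spec.map_comp, Category.assoc]
  rw [this, Functor.map_comp, Category.assoc, h, ← Category.assoc]

/-- Every field valued point has an étale neighbourhood on which the two maps agree. -/
theorem exists_nhd (hX : IsAlgSpace X) (hp : EtGlue.IsGlueingPair A A' g) (str : Spec (CommRingCat.of A) ⟶ S)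
    (x y : (yon S).obj (Over.mk str) ⟶ X)
    (hU : (yon S).map (specHom (algebraMap A (Localization.Away g)) str) ≫ x =
      (yon S).map (specHom (algebraMap A (Localization.Away g)) str) ≫ y)
    (h' : (yon S).map (specHom (algebraMap A A') str) ≫ x = (yon S).map (specHom (algebraMap A A') str) ≫ y)
    (t : Spec (CommRingCat.of A)) :
    ∃ (P : Over S) (π : P ⟶ Over.mk str), Etale π.left ∧ t ∈ Set.range π.left ∧
      (yon S).map π ≫ x = (yon S).map π ≫ y := by
  -- a field valued point over `t`, coming from one of the two pieces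
  obtain ⟨K, _, φ₀, ht, hcase⟩ : ∃ (K : Type u) (_ : Field K) (φ₀ : A →+* K),
      Spec.map (CommRingCat.ofHom φ₀) (IsLocalRing.closedPoint K) = t ∧
      (IsUnit (φ₀ g) ∨ ∃ ψ : A' →+* K, ψ.comp (algebraMap A A') = φ₀) := by
    rcases EtGlue7.jointly_surjective (R := A) (R' := A') (f := g)
      (by
        have key : ∀ h : A, h = g ^ 1 → Function.Bijective
            (Ideal.quotientMap (Ideal.map (algebraMap A A') (Ideal.span {h})) (algebraMap A A') Ideal.le_comap_map) := by
          rintro h rfl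
          exact hp.1 1 one_pos
        exact key g (pow_one g).symm) t with ⟨q, hq⟩ | ⟨q, hq⟩
    · refine ⟨q.asIdeal.ResidueField, inferInstance, (algebraMap A' _).comp (algebraMap A A'), ?_, Or.inr ⟨_, rfl⟩⟩
      rw [← hq]
      apply PrimeSpectrum.ext
      ext a
      show (algebraMap A' q.asIdeal.ResidueField) (algebraMap A A' a) ∈ IsLocalRing.maximalIdeal _ ↔ _
      rw [IsLocalRing.maximalIdeal_eq_bot, Ideal.mem_bot, Ideal.algebraMap_residueField_eq_zero]
      rfl
    · refine ⟨q.asIdeal.ResidueField, inferInstance, (algebraMap _ _).comp (algebraMap A (Localization.Away g)), ?_,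
        Or.inl ((IsLocalization.Away.algebraMap_isUnit g).map (algebraMap (Localization.Away g) q.asIdeal.ResidueField))⟩
      rw [← hq]
      apply PrimeSpectrum.ext
      ext a
      show (algebraMap (Localization.Away g) q.asIdeal.ResidueField) (algebraMap A _ a) ∈ IsLocalRing.maximalIdeal _ ↔ _
      rw [IsLocalRing.maximalIdeal_eq_bot, Ideal.mem_bot, Ideal.algebraMap_residueField_eq_zero]
      rfl
  have hz : (yon S).map (specHom φ₀ str) ≫ x = (yon S).map (specHom φ₀ str) ≫ y := by
    rcases hcase with hu | ⟨ψ, hψ⟩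
    · exact eq_of_factor _ hU (IsLocalization.Away.lift g hu) _ (𝟙 _) (by
        rw [Category.id_comp, IsLocalization.Away.lift_comp]; rfl)
    · exact eq_of_factor _ h' ψ _ (𝟙 _) (by rw [Category.id_comp, hψ]; rfl)
  -- an affine chart through a refinement of the point
  obtain ⟨Ω, _, i, V, c, g₀, hV, hc, hg₀⟩ := exists_chart hX (Spec.map (CommRingCat.ofHom φ₀) ≫ str)
    ((yon S).map (specHom φ₀ str) ≫ x)
  let σ : Over.mk (Spec.map (CommRingCat.ofHom i) ≫ Spec.map (CommRingCat.ofHom φ₀) ≫ str) ⟶ Over.mk str :=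
    Over.homMk (Spec.map (CommRingCat.ofHom i) ≫ Spec.map (CommRingCat.ofHom φ₀)) (Category.assoc _ _ _)
  have hσ : σ = Over.homMk (Spec.map (CommRingCat.ofHom i)) ≫ specHom φ₀ str := by ext1; rfl
  have hgx : (yon S).map g₀ ≫ c = (yon S).map σ ≫ x := by
    rw [hg₀, hσ, Functor.map_comp, Category.assoc]
  have hgy : (yon S).map g₀ ≫ c = (yon S).map σ ≫ y := by
    rw [hg₀, hσ, Functor.map_comp, Category.assoc, hz]
  let ρx := hc.rep.lift' g₀ σ hgx
  let ρy := hc.rep.lift' g₀ σ hgy
  have hρx1 : ρx ≫ hc.rep.fst' x = g₀ := Functor.relativelyRepresentable.lift'_fst ..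
  have hρx2 : ρx ≫ hc.rep.snd x = σ := Functor.relativelyRepresentable.lift'_snd ..
  have hρy1 : ρy ≫ hc.rep.fst' y = g₀ := Functor.relativelyRepresentable.lift'_fst ..
  have hρy2 : ρy ≫ hc.rep.snd y = σ := Functor.relativelyRepresentable.lift'_snd ..
  have : Etale (hc.rep.snd x).left := hc.property_snd x
  have : Etale (hc.rep.snd y).left := hc.property_snd y
  let ρ : Spec (CommRingCat.of Ω) ⟶ pullback (hc.rep.snd x).left (hc.rep.snd y).left :=
    pullback.lift ρx.left ρy.left
      ((congrArg CommaMorphism.left hρx2).trans (congrArg CommaMorphism.left hρy2).symm)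
  let Q : Scheme.{u} := pullback (hc.rep.snd x).left (hc.rep.snd y).left
  obtain ⟨W, hW, hρW, -⟩ := exists_isAffineOpen_mem_and_subset
    (U := (⊤ : Q.Opens))
    (x := ρ (IsLocalRing.closedPoint Ω)) trivial
  let π : Spec Γ(Q, W) ⟶ Spec (CommRingCat.of A) :=
    hW.fromSpec ≫ pullback.fst _ _ ≫ (hc.rep.snd x).left
  have hπy : π = hW.fromSpec ≫ pullback.snd _ _ ≫ (hc.rep.snd y).left := by
    simp only [π, pullback.condition]
  have : Etale π := inferInstanceAs (Etale (hW.fromSpec ≫ pullback.fst _ _ ≫ (hc.rep.snd x).left))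
  let α : A →+* Γ(Q, W) := (Spec.preimage π).hom
  have hα : Spec.map (CommRingCat.ofHom α) = π := Spec.map_preimage π
  let T₁ : Over S := Over.mk (Spec.map (CommRingCat.ofHom α) ≫ str)
  let wx : T₁ ⟶ hc.rep.pullback x := Over.homMk (hW.fromSpec ≫ pullback.fst _ _) (by
    show _ = Spec.map (CommRingCat.ofHom α) ≫ str
    rw [hα, ← Over.w (hc.rep.snd x)]
    simp only [π, Category.assoc, Over.mk_hom])
  let wy : T₁ ⟶ hc.rep.pullback y := Over.homMk (hW.fromSpec ≫ pullback.snd _ _) (by
    show _ = Spec.map (CommRingCat.ofHom α) ≫ str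
    rw [hα, ← Over.w (hc.rep.snd y), hπy]
    simp only [Category.assoc, Over.mk_hom])
  let π₁ : T₁ ⟶ Over.mk str := specHom α str
  have hwx : wx ≫ hc.rep.snd x = π₁ := by
    ext1
    show (hW.fromSpec ≫ pullback.fst _ _) ≫ _ = Spec.map (CommRingCat.ofHom α)
    rw [hα, Category.assoc]
  have hwy : wy ≫ hc.rep.snd y = π₁ := by
    ext1
    show (hW.fromSpec ≫ pullback.snd _ _) ≫ _ = Spec.map (CommRingCat.ofHom α)
    rw [hα, Category.assoc, hπy]
  let v₁ : T₁ ⟶ V := wx ≫ hc.rep.fst' x
  let v₂ : T₁ ⟶ V := wy ≫ hc.rep.fst' y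
  have hv₁ : (yon S).map v₁ ≫ c = (yon S).map π₁ ≫ x := by
    rw [Functor.map_comp, Category.assoc, hc.rep.map_fst', hc.rep.w, ← Category.assoc, ← Functor.map_comp, hwx]
  have hv₂ : (yon S).map v₂ ≫ c = (yon S).map π₁ ≫ y := by
    rw [Functor.map_comp, Category.assoc, hc.rep.map_fst', hc.rep.w, ← Category.assoc, ← Functor.map_comp, hwy]
  -- the glueing pair upstairs
  algebraize [α]
  have hαet : α.Etale := by
    have h := ‹Etale π›
    rw [← hα] at h
    exact (HasRingHomProperty.Spec_iff (P := @Etale)).1 h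
  have : Module.Flat A Γ(Q, W) := RingHom.flat_algebraMap_iff.mp (RingHom.Etale.iff_flat_and_formallyUnramified.1 hαet).1
  have hp₁ := glueingPair_of_flat hp Γ(Q, W)
  have key : ∀ {C D : Type u} [CommRing C] [CommRing D] (β : A →+* C) (β₁ : Γ(Q, W) →+* D) (δ : C →+* D),
      δ.comp β = β₁.comp α → (yon S).map (specHom β str) ≫ x = (yon S).map (specHom β str) ≫ y →
      (yon S).map (specHom β₁ (Spec.map (CommRingCat.ofHom α) ≫ str) ≫ v₁) ≫ c =
        (yon S).map (specHom β₁ (Spec.map (CommRingCat.ofHom α) ≫ str) ≫ v₂) ≫ c := by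
    intro C D _ _ β β₁ δ hδ hxy
    rw [(yon S).map_comp (specHom β₁ _) v₁, (yon S).map_comp (specHom β₁ _) v₂, Category.assoc, Category.assoc, hv₁, hv₂,
      ]
    have h := eq_of_factor β hxy δ (specHom β₁ _ ≫ π₁) (𝟙 _) (by
      rw [Category.id_comp, hδ, CommRingCat.ofHom_comp, Spec.map_comp]
      rfl)
    rw [Functor.map_comp, Category.assoc, Category.assoc] at h
    exact h
  obtain ⟨e, he, heq, hloc⟩ := exists_eqLocus_glue hc hp₁ (Spec.map (CommRingCat.ofHom α) ≫ str) v₁ v₂
    (key _ _ (Localization.awayMap α g)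
      (RingHom.ext fun a => by simp [Localization.awayMap, IsLocalization.Away.map, RingHom.algebraMap_toAlgebra]) hU)
    (key _ _ (Algebra.TensorProduct.includeLeft (R := A) (S := A) (A := A') (B := Γ(Q, W))).toRingHom
      (RingHom.ext fun a =>
        ((Algebra.TensorProduct.includeLeft (R := A) (S := A) (A := A') (B := Γ(Q, W))).commutes a).trans
          ((Algebra.TensorProduct.includeRight (R := A) (A := A') (B := Γ(Q, W))).commutes a).symm) h')
  -- the point lies in the agreement locus
  have hrange : Set.range ρ ⊆ Set.range hW.fromSpec := by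
    rintro _ ⟨s, rfl⟩
    rw [hW.range_fromSpec, show s = IsLocalRing.closedPoint Ω from Subsingleton.elim _ _]
    exact hρW
  let ψ₁ : Γ(Q, W) →+* Ω := (Spec.preimage (IsOpenImmersion.lift hW.fromSpec ρ hrange)).hom
  have hψ₁ : Spec.map (CommRingCat.ofHom ψ₁) ≫ hW.fromSpec = ρ := by
    rw [show CommRingCat.ofHom ψ₁ = Spec.preimage (IsOpenImmersion.lift hW.fromSpec ρ hrange) from rfl,
      Spec.map_preimage, IsOpenImmersion.lift_fac]
  have hψα : ψ₁.comp α = i.comp φ₀ := by
    apply congrArg CommRingCat.Hom.hom (a₁ := CommRingCat.ofHom (ψ₁.comp α)) (a₂ := CommRingCat.ofHom (i.comp φ₀))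
    apply Spec.map_injective
    rw [CommRingCat.ofHom_comp, CommRingCat.ofHom_comp, Spec.map_comp, Spec.map_comp, hα]
    show _ ≫ hW.fromSpec ≫ _ ≫ _ = _
    rw [← Category.assoc, hψ₁]
    erw [pullback.lift_fst_assoc]
    exact congrArg CommaMorphism.left hρx2
  have he1 : ψ₁ e = 1 := by
    refine hloc Ω ψ₁ ?_ ?_
    · rcases hcase with hu | ⟨ψ, hψ⟩
      · left
        rw [RingHom.algebraMap_toAlgebra, ← RingHom.comp_apply, hψα]
        exact hu.map i
      · right
        letI := (i.comp φ₀).toAlgebra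
        let a₁ : A' →ₐ[A] Ω := { i.comp ψ with commutes' := fun a => congrArg i (RingHom.congr_fun hψ a) }
        let a₂ : Γ(Q, W) →ₐ[A] Ω := { ψ₁ with commutes' := fun a => RingHom.congr_fun hψα a }
        refine ⟨(Algebra.TensorProduct.lift a₁ a₂ fun _ _ => Commute.all _ _).toRingHom, RingHom.ext fun b => ?_⟩
        show Algebra.TensorProduct.lift a₁ a₂ (fun _ _ => Commute.all _ _) ((1 : A') ⊗ₜ[A] b) = ψ₁ b
        rw [Algebra.TensorProduct.lift_tmul, map_one, one_mul]
        rfl
    · show _ ≫ (hW.fromSpec ≫ _) ≫ _ = _ ≫ (hW.fromSpec ≫ _) ≫ _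
      rw [← Category.assoc, ← Category.assoc, hψ₁, ← Category.assoc (Spec.map _), ← Category.assoc (Spec.map _), hψ₁]
      erw [pullback.lift_fst, pullback.lift_snd]
      exact (congrArg CommaMorphism.left hρx1).trans (congrArg CommaMorphism.left hρy1).symm
  let P : Over S := Over.mk (Spec.map (CommRingCat.ofHom (algebraMap Γ(Q, W) (Localization.Away e))) ≫
    Spec.map (CommRingCat.ofHom α) ≫ str)
  let j : P ⟶ T₁ := specHom _ _
  refine ⟨P, j ≫ π₁, ?_, ?_, ?_⟩
  · show Etale (Spec.map (CommRingCat.ofHom (algebraMap Γ(Q, W) (Localization.Away e))) ≫ Spec.map (CommRingCat.ofHom α))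
    have := IsOpenImmersion.of_isLocalization (S := Localization.Away e) e
    rw [hα]
    infer_instance
  · have hu : IsUnit (ψ₁ e) := by rw [he1]; exact isUnit_one
    refine ⟨Spec.map (CommRingCat.ofHom (IsLocalization.Away.lift (S := Localization.Away e) e hu))
      (IsLocalRing.closedPoint Ω), ?_⟩
    rw [← ht, show IsLocalRing.closedPoint K = Spec.map (CommRingCat.ofHom i) (IsLocalRing.closedPoint Ω)
      from Subsingleton.elim _ _]
    rw [← Scheme.Hom.comp_apply, ← Scheme.Hom.comp_apply, ← Spec.map_comp, ← CommRingCat.ofHom_comp, ← hψα]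
    show (Spec.map (CommRingCat.ofHom _) ≫ Spec.map (CommRingCat.ofHom _) ≫ Spec.map (CommRingCat.ofHom α)) _ = _
    rw [← Spec.map_comp, ← Spec.map_comp, ← CommRingCat.ofHom_comp, ← CommRingCat.ofHom_comp,
      ← RingHom.comp_assoc, IsLocalization.Away.lift_comp]
  · have hj : j ≫ v₁ = j ≫ v₂ := by ext1; exact heq
    rw [Functor.map_comp, Category.assoc, Category.assoc, ← hv₁, ← hv₂, ← Category.assoc, ← Category.assoc,
      ← Functor.map_comp, ← Functor.map_comp, hj]

/-- Maps into an algebraic space are determined by their restrictions to the pieces of a glueing pair. -/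
theorem eq_of_glueingPair (hX : IsAlgSpace X) (hp : EtGlue.IsGlueingPair A A' g) (str : Spec (CommRingCat.of A) ⟶ S)
    (x y : (yon S).obj (Over.mk str) ⟶ X)
    (hU : (yon S).map (specHom (algebraMap A (Localization.Away g)) str) ≫ x =
      (yon S).map (specHom (algebraMap A (Localization.Away g)) str) ≫ y)
    (h' : (yon S).map (specHom (algebraMap A A') str) ≫ x = (yon S).map (specHom (algebraMap A A') str) ≫ y) :
    x = y := by
  choose P π hπ ht heq using exists_nhd hX hp str x y hU h'
  refine AlgSpLib.hom_ext_of_covering x y (R := Sieve.generate (Presieve.ofArrows P π)) ?_ ?_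
  · exact AlgSpDec.mem_J_of_jointly π (fun t => ⟨t, ht t⟩) _ fun k =>
      Sieve.le_generate _ _ _ (Presieve.ofArrows.mk k)
  · rintro T _ ⟨_, φ, _, ⟨k⟩, rfl⟩
    rw [Functor.map_comp, Category.assoc, Category.assoc, heq k]

end Groth.Agent.EtGlueSp
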