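import Groth.Prelude.Def_AlgSp3
import Mathlib.AlgebraicGeometry.Pullbacks
import Groth.Agent.EtGlueSp.Eq

/-!
# Coordinates for fibre products of affine étale charts
-/

set_option autoImplicit false
set_option backward.isDefEq.respectTransparency.types false

universe u

open CategoryTheory CategoryTheory.Limits AlgebraicGeometry Opposite AlgSp

namespace Groth.Agent.EtGlueSp

variable {S : Scheme.{u}} [IsAffine S] {Z : Sp S} {V : Over S} [IsAffine V.left] {c : (yon S).obj V ⟶ Z}

/-- Affine diagonal: fibre products of affine charts are affine. -/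
theorem isAffine_pullback_of_diag (hd : IsAffineMor (Limits.diag Z)) (hc : Representable c) {T : Over S}
    [IsAffine T.left] (x : (yon S).obj T ⟶ Z) : IsAffine (hc.pullback x).left := by
  let P : Over S := Over.mk (pullback.fst V.hom T.hom ≫ V.hom)
  let pr₁ : P ⟶ V := Over.homMk (pullback.fst V.hom T.hom)
  let pr₂ : P ⟶ T := Over.homMk (pullback.snd V.hom T.hom) pullback.condition.symm
  have : IsAffine P.left := inferInstanceAs (IsAffine (pullback V.hom T.hom))
  obtain ⟨W, i, fst, sq, hW⟩ := hd ‹IsAffine P.left› (prod.lift ((yon S).map pr₁ ≫ c) ((yon S).map pr₂ ≫ x))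
  have h1 : fst = (yon S).map i ≫ (yon S).map pr₁ ≫ c := by
    have h := congrArg (· ≫ Limits.prod.fst) sq.w
    simp only [Category.assoc] at h
    erw [prod.lift_fst, prod.lift_fst, Category.comp_id] at h
    exact h
  have h2 : fst = (yon S).map i ≫ (yon S).map pr₂ ≫ x := by
    have h := congrArg (· ≫ Limits.prod.snd) sq.w
    simp only [Category.assoc] at h
    erw [prod.lift_snd, prod.lift_snd, Category.comp_id] at h
    exact h
  let l' : W ⟶ hc.pullback x := hc.lift' (i ≫ pr₁) (i ≫ pr₂) (by
    rw [Functor.map_comp, Functor.map_comp, Category.assoc, Category.assoc, ← h1, ← h2])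
  have hl'1 : l' ≫ hc.fst' x = i ≫ pr₁ := Functor.relativelyRepresentable.lift'_fst ..
  have hl'2 : l' ≫ hc.snd x = i ≫ pr₂ := Functor.relativelyRepresentable.lift'_snd ..
  let pair : hc.pullback x ⟶ P :=
    Over.homMk (pullback.lift (hc.fst' x).left (hc.snd x).left
      ((Over.w (hc.fst' x)).trans (Over.w (hc.snd x)).symm)) (by
      show _ ≫ pullback.fst V.hom T.hom ≫ V.hom = _
      rw [pullback.lift_fst_assoc]
      exact Over.w (hc.fst' x))
  have hp1 : pair ≫ pr₁ = hc.fst' x := by ext1; exact pullback.lift_fst _ _ _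
  have hp2 : pair ≫ pr₂ = hc.snd x := by ext1; exact pullback.lift_snd _ _ _
  let l := sq.lift ((yon S).map (hc.fst' x) ≫ c) ((yon S).map pair) (by
    apply prod.hom_ext
    · simp only [Category.assoc, prod.lift_fst, Category.comp_id, ← hp1, Functor.map_comp]
    · simp only [Category.assoc, prod.lift_snd, Category.comp_id]
      rw [← Functor.map_comp_assoc, hp2, hc.map_fst', hc.w])
  obtain ⟨l₀, hl₀⟩ := (yon S).map_surjective l
  have hl2 : l₀ ≫ i = pair := (yon S).map_injective (by
    rw [Functor.map_comp, hl₀]; exact sq.lift_snd ..)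
  have e1 : l₀ ≫ l' = 𝟙 _ := by
    apply Functor.relativelyRepresentable.hom_ext' hc
    · rw [Category.assoc, hl'1, ← Category.assoc, hl2, hp1, Category.id_comp]
    · rw [Category.assoc, hl'2, ← Category.assoc, hl2, hp2, Category.id_comp]
  have e2 : l' ≫ l₀ = 𝟙 _ := by
    have hi : l' ≫ pair = i := by
      ext1
      apply pullback.hom_ext
      · show (l'.left ≫ pullback.lift _ _ _) ≫ _ = _
        rw [Category.assoc, pullback.lift_fst]
        exact congrArg CommaMorphism.left hl'1
      · show (l'.left ≫ pullback.lift _ _ _) ≫ _ = _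
        rw [Category.assoc, pullback.lift_snd]
        exact congrArg CommaMorphism.left hl'2
    apply (yon S).map_injective
    apply sq.hom_ext
    · rw [Functor.map_comp, Category.assoc, hl₀, sq.lift_fst, CategoryTheory.Functor.map_id, Category.id_comp,
        ← Category.assoc, ← Functor.map_comp, hl'1, Functor.map_comp, Category.assoc, ← h1]
    · rw [← Functor.map_comp, ← Functor.map_comp, Category.assoc, hl2, hi, Category.id_comp]
  let e : (hc.pullback x).left ≅ W.left :=
    ⟨l₀.left, l'.left, congrArg CommaMorphism.left e1, congrArg CommaMorphism.left e2⟩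
  haveI : IsIso e.hom := Iso.isIso_hom e
  exact IsAffine.of_isIso e.hom

/-- An affine fibre product of an étale chart with a spectrum, in coordinates. -/
theorem exists_coord (hd : IsAffineMor (Limits.diag Z)) (hc : RepWith @Etale c) (A : Type u) [CommRing A]
    (str : Spec (CommRingCat.of A) ⟶ S) (x : (yon S).obj (Over.mk str) ⟶ Z) :
    ∃ (B : Type u) (_ : CommRing B) (_ : Algebra A B) (w : Over.mk (Spec.map (CommRingCat.ofHom (algebraMap A B)) ≫ str) ⟶ V),
      (algebraMap A B).Etale ∧ (yon S).map w ≫ c = (yon S).map (specHom (algebraMap A B) str) ≫ x ∧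
      (∀ (C : Type u) [CommRing C] [Algebra A C]
        (v : Over.mk (Spec.map (CommRingCat.ofHom (algebraMap A C)) ≫ str) ⟶ V),
        (yon S).map v ≫ c = (yon S).map (specHom (algebraMap A C) str) ≫ x →
        ∃! β : B →ₐ[A] C, Spec.map (CommRingCat.ofHom β.toRingHom) ≫ w.left = v.left) ∧
      ∀ (t : Spec (CommRingCat.of A)) (v : V.left), Points.ofPt x t = Points.ofPt c v →
        ∃ q, Spec.map (CommRingCat.ofHom (algebraMap A B)) q = t := by
  haveI : IsAffine (Over.mk str).left := inferInstanceAs (IsAffine (Spec (CommRingCat.of A)))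
  haveI := isAffine_pullback_of_diag hd hc.rep x
  let P := hc.rep.pullback x
  let π : Spec Γ(P.left, ⊤) ⟶ Spec (CommRingCat.of A) := P.left.isoSpec.inv ≫ (hc.rep.snd x).left
  letI alg : Algebra A Γ(P.left, ⊤) := (Spec.preimage π).hom.toAlgebra
  have hπ : Spec.map (CommRingCat.ofHom (algebraMap A Γ(P.left, ⊤))) = π := Spec.map_preimage π
  let T₁ : Over S := Over.mk (Spec.map (CommRingCat.ofHom (algebraMap A Γ(P.left, ⊤))) ≫ str)
  let i : T₁ ⟶ P := Over.homMk P.left.isoSpec.inv (by
    show _ = Spec.map _ ≫ str
    rw [hπ, ← Over.w (hc.rep.snd x)]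
    simp only [π, Category.assoc, Over.mk_hom])
  have hi : i ≫ hc.rep.snd x = specHom (algebraMap A Γ(P.left, ⊤)) str := by
    ext1
    exact hπ.symm
  have : Etale (hc.rep.snd x).left := hc.property_snd x
  refine ⟨Γ(P.left, ⊤), inferInstance, alg, i ≫ hc.rep.fst' x, ?_, ?_, fun C _ _ v hv => ?_, fun t v h => ?_⟩
  · have h : Etale (Spec.map (CommRingCat.ofHom (algebraMap A Γ(P.left, ⊤)))) := by
      rw [hπ]; exact inferInstanceAs (Etale (P.left.isoSpec.inv ≫ (hc.rep.snd x).left))
    exact (HasRingHomProperty.Spec_iff (P := @Etale)).1 h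
  · rw [Functor.map_comp, Category.assoc, hc.rep.map_fst', hc.rep.w, ← Category.assoc, ← Functor.map_comp, hi]
  · let k := hc.rep.lift' v (specHom (algebraMap A C) str) hv
    have hk1 : k ≫ hc.rep.fst' x = v := Functor.relativelyRepresentable.lift'_fst ..
    have hk2 : k ≫ hc.rep.snd x = specHom (algebraMap A C) str := Functor.relativelyRepresentable.lift'_snd ..
    let β₀ := Spec.preimage (k.left ≫ P.left.isoSpec.hom)
    have hβ : Spec.map β₀ ≫ π = Spec.map (CommRingCat.ofHom (algebraMap A C)) := by
      rw [Spec.map_preimage]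
      show (k.left ≫ _) ≫ _ ≫ _ = _
      rw [Category.assoc, Iso.hom_inv_id_assoc]
      exact congrArg CommaMorphism.left hk2
    let β : Γ(P.left, ⊤) →ₐ[A] C := { β₀.hom with
      commutes' := fun a => by
        have h : Spec.preimage π ≫ β₀ = CommRingCat.ofHom (algebraMap A C) :=
          Spec.map_injective (by rw [Spec.map_comp, Spec.map_preimage π, hβ])
        exact congr($(h).hom a) }
    refine ⟨β, ?_, fun β' hβ' => ?_⟩
    · show Spec.map β₀ ≫ P.left.isoSpec.inv ≫ (hc.rep.fst' x).left = _
      rw [Spec.map_preimage, Category.assoc, Iso.hom_inv_id_assoc]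
      exact congrArg CommaMorphism.left hk1
    · have hπ' : Spec.map (CommRingCat.ofHom β'.toRingHom) ≫ π = Spec.map (CommRingCat.ofHom (algebraMap A C)) := by
        rw [← hπ, ← Spec.map_comp, ← CommRingCat.ofHom_comp]
        exact congrArg (fun r => Spec.map (CommRingCat.ofHom r)) (RingHom.ext β'.commutes)
      let k' : Over.mk (Spec.map (CommRingCat.ofHom (algebraMap A C)) ≫ str) ⟶ P :=
        Over.homMk (Spec.map (CommRingCat.ofHom β'.toRingHom) ≫ P.left.isoSpec.inv) (by
          show _ = Spec.map _ ≫ str
          rw [← hπ', ← Over.w (hc.rep.snd x)]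
          simp only [π, Category.assoc, Over.mk_hom])
      have hk : k' = k := by
        apply Functor.relativelyRepresentable.hom_ext' hc.rep
        · rw [hk1]
          ext1
          exact (Category.assoc _ _ _).trans hβ'
        · rw [hk2]
          ext1
          exact (Category.assoc _ _ _).trans hπ'
      have : Spec.map (CommRingCat.ofHom β'.toRingHom) = Spec.map β₀ := by
        rw [Spec.map_preimage, ← hk]
        show _ = (_ ≫ _) ≫ _
        rw [Category.assoc, Iso.inv_hom_id, Category.comp_id]
      exact AlgHom.ext fun b => congr($(Spec.map_injective this).hom b)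
  · obtain ⟨z, -, hz⟩ := AlgSpLib.exists_point_of_isPullback (hc.rep.isPullback x)
      (x := Points.ofScheme _ v) (y := Points.ofScheme _ t) (by
        rw [Points.map_ofPt, Points.map_ofPt, Category.id_comp, Category.id_comp, h])
    have hz' := congrArg (Points.toScheme _) hz
    rw [← Points.ofScheme_toScheme _ z, Points.map_ofPt, Category.id_comp, Points.toScheme_ofPt,
      Points.toScheme_ofScheme] at hz'
    refine ⟨P.left.isoSpec.hom (Points.toScheme _ z), ?_⟩
    rw [hπ, ← Scheme.Hom.comp_apply]
    simp only [π, Iso.hom_inv_id_assoc]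
    exact hz'

end Groth.Agent.EtGlueSp
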