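import Groth.Agent.EtGlueSp.GlueLocal
import Groth.Agent.AlgSpLib.Points
import Mathlib.AlgebraicGeometry.PullbackCarrier

/-!
# Glueing maps into an algebraic space with affine diagonal
-/

set_option autoImplicit false
set_option maxHeartbeats 800000
set_option backward.isDefEq.respectTransparency.types false

universe u

open CategoryTheory CategoryTheory.Limits AlgebraicGeometry Opposite AlgSp TensorProduct

namespace Groth.Agent.EtGlueSp

attribute [local instance] Algebra.TensorProduct.rightAlgebra

variable {R : Type u} [CommRing R] {Z : Sp (Spec (CommRingCat.of R))} {A A' : Type u} [CommRing A] [CommRing A']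
  [Algebra A A'] {g : A}

theorem specHom_comp {B C D : Type u} [CommRing B] [CommRing C] [CommRing D] {S : Scheme.{u}} (f₁ : B →+* C)
    (f₂ : C →+* D) (str : Spec (CommRingCat.of B) ⟶ S) :
    Spec.map (CommRingCat.ofHom (f₂.comp f₁)) ≫ str =
      Spec.map (CommRingCat.ofHom f₂) ≫ Spec.map (CommRingCat.ofHom f₁) ≫ str := by
  rw [CommRingCat.ofHom_comp, Spec.map_comp, Category.assoc]

theorem awayMap_comp {C D : Type u} [CommRing C] [CommRing D] (f : C →+* D) (g : C) :
    (Localization.awayMap f g).comp (algebraMap C (Localization.Away g)) =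
      (algebraMap D (Localization.Away (f g))).comp f :=
  IsLocalization.map_comp _

theorem agree_of_restr (hZ : IsAlgSpace Z) (hp : EtGlue.IsGlueingPair A A' g)
    (str : Spec (CommRingCat.of A) ⟶ Spec (CommRingCat.of R))
    (xU : (yon _).obj (Over.mk (Spec.map (CommRingCat.ofHom (algebraMap A (Localization.Away g))) ≫ str)) ⟶ Z)
    (x' : (yon _).obj (Over.mk (Spec.map (CommRingCat.ofHom (algebraMap A A')) ≫ str)) ⟶ Z)
    {B₁ B₂ : Type u} [CommRing B₁] [CommRing B₂] [Algebra A B₁] [Algebra A B₂] [Module.Flat A B₁] [Module.Flat A B₂]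
    (y₁ : (yon _).obj (Over.mk (Spec.map (CommRingCat.ofHom (algebraMap A B₁)) ≫ str)) ⟶ Z)
    (y₂ : (yon _).obj (Over.mk (Spec.map (CommRingCat.ofHom (algebraMap A B₂)) ≫ str)) ⟶ Z)
    (h₁U : IsRestr str (algebraMap A B₁) (algebraMap A (Localization.Away g)) y₁ xU)
    (h₁' : IsRestr str (algebraMap A B₁) (algebraMap A A') y₁ x')
    (h₂U : IsRestr str (algebraMap A B₂) (algebraMap A (Localization.Away g)) y₂ xU)
    (h₂' : IsRestr str (algebraMap A B₂) (algebraMap A A') y₂ x')
    {T : Over (Spec (CommRingCat.of R))} (a : T ⟶ Over.mk (Spec.map (CommRingCat.ofHom (algebraMap A B₁)) ≫ str))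
    (b : T ⟶ Over.mk (Spec.map (CommRingCat.ofHom (algebraMap A B₂)) ≫ str))
    (hab : a ≫ specHom (algebraMap A B₁) str = b ≫ specHom (algebraMap A B₂) str) :
    (yon _).map a ≫ y₁ = (yon _).map b ≫ y₂ := by
  let iL : B₁ →+* B₁ ⊗[A] B₂ := Algebra.TensorProduct.includeLeftRingHom
  let iR : B₂ →+* B₁ ⊗[A] B₂ := (Algebra.TensorProduct.includeRight (R := A) (A := B₁) (B := B₂)).toRingHom
  have hL : iL.comp (algebraMap A B₁) = algebraMap A (B₁ ⊗[A] B₂) :=
    RingHom.ext fun r => ((Algebra.TensorProduct.includeLeft (R := A) (S := A) (A := B₁) (B := B₂)).commutes r)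
  have hR : iR.comp (algebraMap A B₂) = algebraMap A (B₁ ⊗[A] B₂) :=
    RingHom.ext fun r => ((Algebra.TensorProduct.includeRight (R := A) (A := B₁) (B := B₂)).commutes r)
  let TC : Over (Spec (CommRingCat.of R)) :=
    Over.mk (Spec.map (CommRingCat.ofHom (algebraMap A (B₁ ⊗[A] B₂))) ≫ str)
  let mL : TC ⟶ Over.mk (Spec.map (CommRingCat.ofHom (algebraMap A B₁)) ≫ str) :=
    Over.homMk (Spec.map (CommRingCat.ofHom iL)) (by
      show _ ≫ _ ≫ _ = Spec.map _ ≫ str
      rw [← hL, specHom_comp])
  let mR : TC ⟶ Over.mk (Spec.map (CommRingCat.ofHom (algebraMap A B₂)) ≫ str) :=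
    Over.homMk (Spec.map (CommRingCat.ofHom iR)) (by
      show _ ≫ _ ≫ _ = Spec.map _ ≫ str
      rw [← hR, specHom_comp])
  -- the universal case
  have key : (yon _).map mL ≫ y₁ = (yon _).map mR ≫ y₂ := by
    refine eq_of_glueingPair hZ (glueingPair_of_flat hp (B₁ ⊗[A] B₂)) _ _ _ ?_ ?_
    · let m : Over.mk (Spec.map (CommRingCat.ofHom (algebraMap (B₁ ⊗[A] B₂) (Localization.Away (algebraMap A (B₁ ⊗[A] B₂) g)))) ≫
          Spec.map (CommRingCat.ofHom (algebraMap A (B₁ ⊗[A] B₂))) ≫ str) ⟶
          Over.mk (Spec.map (CommRingCat.ofHom (algebraMap A (Localization.Away g))) ≫ str) :=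
        Over.homMk (Spec.map (CommRingCat.ofHom (Localization.awayMap (algebraMap A (B₁ ⊗[A] B₂)) g))) (by
          show _ ≫ _ ≫ _ = Spec.map _ ≫ Spec.map _ ≫ str
          rw [← specHom_comp, ← specHom_comp,
            show (Localization.awayMap (algebraMap A (B₁ ⊗[A] B₂)) g).comp (algebraMap A (Localization.Away g)) =
              (algebraMap (B₁ ⊗[A] B₂) (Localization.Away (algebraMap A (B₁ ⊗[A] B₂) g))).comp (algebraMap A (B₁ ⊗[A] B₂))
            from awayMap_comp _ _])
      have hm : m.left ≫ Spec.map (CommRingCat.ofHom (algebraMap A (Localization.Away g))) =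
          Spec.map (CommRingCat.ofHom (algebraMap (B₁ ⊗[A] B₂) (Localization.Away (algebraMap A (B₁ ⊗[A] B₂) g)))) ≫
            Spec.map (CommRingCat.ofHom (algebraMap A (B₁ ⊗[A] B₂))) := by
        show Spec.map _ ≫ _ = _
        rw [← Spec.map_comp, ← Spec.map_comp, ← CommRingCat.ofHom_comp, ← CommRingCat.ofHom_comp,
          show (Localization.awayMap (algebraMap A (B₁ ⊗[A] B₂)) g).comp (algebraMap A (Localization.Away g)) =
              (algebraMap (B₁ ⊗[A] B₂) (Localization.Away (algebraMap A (B₁ ⊗[A] B₂) g))).comp (algebraMap A (B₁ ⊗[A] B₂))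
            from awayMap_comp _ _]
      refine (yon_comp _ _ _).trans ((h₁U _ _ _ m ?_).trans ((h₂U _ _ _ m ?_).symm.trans (yon_comp _ _ _).symm))
      · ext1
        refine Eq.trans ?_ hm.symm
        show (_ ≫ Spec.map _) ≫ Spec.map _ = _
        rw [Category.assoc, ← Spec.map_comp, ← CommRingCat.ofHom_comp, hL]
        rfl
      · ext1
        refine Eq.trans ?_ hm.symm
        show (_ ≫ Spec.map _) ≫ Spec.map _ = _
        rw [Category.assoc, ← Spec.map_comp, ← CommRingCat.ofHom_comp, hR]
        rfl
    · let C := B₁ ⊗[A] B₂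
      let iA : A' →+* A' ⊗[A] C := Algebra.TensorProduct.includeLeftRingHom
      let iC : C →+* A' ⊗[A] C := (Algebra.TensorProduct.includeRight (R := A) (A := A') (B := C)).toRingHom
      have hA : iC.comp (algebraMap A C) = iA.comp (algebraMap A A') :=
        RingHom.ext fun r => ((Algebra.TensorProduct.includeRight (R := A) (A := A') (B := C)).commutes r).trans
          ((Algebra.TensorProduct.includeLeft (R := A) (S := A) (A := A') (B := C)).commutes r).symm
      let m : Over.mk (Spec.map (CommRingCat.ofHom iC) ≫ Spec.map (CommRingCat.ofHom (algebraMap A C)) ≫ str) ⟶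
          Over.mk (Spec.map (CommRingCat.ofHom (algebraMap A A')) ≫ str) :=
        Over.homMk (Spec.map (CommRingCat.ofHom iA)) (by
          show _ ≫ _ ≫ _ = Spec.map _ ≫ Spec.map _ ≫ str
          rw [← specHom_comp, ← specHom_comp, hA])
      have hm : m.left ≫ Spec.map (CommRingCat.ofHom (algebraMap A A')) =
          Spec.map (CommRingCat.ofHom iC) ≫ Spec.map (CommRingCat.ofHom (algebraMap A C)) := by
        show Spec.map _ ≫ _ = _
        rw [← Spec.map_comp, ← Spec.map_comp, ← CommRingCat.ofHom_comp, ← CommRingCat.ofHom_comp, hA]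
      refine (yon_comp _ _ _).trans ((h₁' _ _ _ m ?_).trans ((h₂' _ _ _ m ?_).symm.trans (yon_comp _ _ _).symm))
      · ext1
        refine Eq.trans ?_ hm.symm
        show (_ ≫ Spec.map _) ≫ Spec.map _ = _
        rw [Category.assoc, ← Spec.map_comp, ← CommRingCat.ofHom_comp, hL]
        rfl
      · ext1
        refine Eq.trans ?_ hm.symm
        show (_ ≫ Spec.map _) ≫ Spec.map _ = _
        rw [Category.assoc, ← Spec.map_comp, ← CommRingCat.ofHom_comp, hR]
        rfl
  -- the general case factors through it
  have hab' : a.left ≫ Spec.map (CommRingCat.ofHom (algebraMap A B₁)) =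
      b.left ≫ Spec.map (CommRingCat.ofHom (algebraMap A B₂)) := congrArg CommaMorphism.left hab
  let l₀ : T.left ⟶ Spec (CommRingCat.of (B₁ ⊗[A] B₂)) :=
    pullback.lift a.left b.left hab' ≫ (pullbackSpecIso A B₁ B₂).hom
  have hl1 : l₀ ≫ Spec.map (CommRingCat.ofHom iL) = a.left := by
    show (_ ≫ _) ≫ _ = _
    rw [Category.assoc, pullbackSpecIso_hom_fst, pullback.lift_fst]
  have hl2 : l₀ ≫ Spec.map (CommRingCat.ofHom iR) = b.left := by
    show (_ ≫ _) ≫ _ = _
    erw [Category.assoc, pullbackSpecIso_hom_snd, pullback.lift_snd]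
  let l : T ⟶ TC := Over.homMk l₀ (by
    show _ ≫ Spec.map _ ≫ str = _
    rw [← hL, specHom_comp, ← Category.assoc, hl1]
    exact Over.w a)
  have ea : a = l ≫ mL := by ext1; exact hl1.symm
  have eb : b = l ≫ mR := by ext1; exact hl2.symm
  rw [ea, eb, Functor.map_comp, Functor.map_comp, Category.assoc, Category.assoc, key]

theorem exists_glue (hp : EtGlue.IsGlueingPair A A' g) (hZ : IsAlgSpace Z) (hd : IsAffineMor (Limits.diag Z))
    (str : Spec (CommRingCat.of A) ⟶ Spec (CommRingCat.of R))
    (xU : (yon _).obj (Over.mk (Spec.map (CommRingCat.ofHom (algebraMap A (Localization.Away g))) ≫ str)) ⟶ Z)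
    (x' : (yon _).obj (Over.mk (Spec.map (CommRingCat.ofHom (algebraMap A A')) ≫ str)) ⟶ Z)
    (compat : Compat str xU x') :
    ∃ x : (yon _).obj (Over.mk str) ⟶ Z,
      (yon _).map (specHom (algebraMap A (Localization.Away g)) str) ≫ x = xU ∧
      (yon _).map (specHom (algebraMap A A') str) ≫ x = x' := by
  obtain ⟨U, p, hpe, hps, ι, V, _, _, j, hje, hcov, hje'⟩ := exists_charts hZ
  haveI : ∀ k, IsAffine (specOver (R := R) (V k)).left := fun k => inferInstanceAs (IsAffine (Spec _))
  choose B iC iA y het hyU hy' hpU hp' using fun k => exists_local hp hd (hje' k) str xU x' compat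
  haveI hflat : ∀ k, Module.Flat A (B k) := fun k =>
    RingHom.flat_algebraMap_iff.mp (RingHom.Etale.iff_flat_and_formallyUnramified.1 (het k)).1
  haveI hetS : ∀ k, Etale (specHom (algebraMap A (B k)) str).left := fun k =>
    (HasRingHomProperty.Spec_iff (P := @Etale)).2 (het k)
  have hcover : ∀ t : Spec (CommRingCat.of A), ∃ k,
      t ∈ Set.range (Spec.map (CommRingCat.ofHom (algebraMap A (B k)))) := by
    intro t
    have hq : Function.Bijective
        (Ideal.quotientMap (Ideal.map (algebraMap A A') (Ideal.span {g})) (algebraMap A A') Ideal.le_comap_map) := by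
      have key : ∀ h : A, h = g ^ 1 → Function.Bijective
          (Ideal.quotientMap (Ideal.map (algebraMap A A') (Ideal.span {h})) (algebraMap A A') Ideal.le_comap_map) := by
        rintro h rfl
        exact hp.1 1 one_pos
      exact key g (pow_one g).symm
    rcases EtGlue7.jointly_surjective (R := A) (R' := A') (f := g) hq t with ⟨q, rfl⟩ | ⟨q, rfl⟩
    · obtain ⟨u, hu⟩ := AlgSpLib.surjective_ofPt hps (Points.ofPt x' q)
      obtain ⟨k, v, rfl⟩ := hcov u
      exact ⟨k, hp' k q v (hu.symm.trans (AlgSpLib.ofPt_comp (j k) p v).symm)⟩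
    · obtain ⟨u, hu⟩ := AlgSpLib.surjective_ofPt hps (Points.ofPt xU q)
      obtain ⟨k, v, rfl⟩ := hcov u
      exact ⟨k, hpU k q v (hu.symm.trans (AlgSpLib.ofPt_comp (j k) p v).symm)⟩
  obtain ⟨z, hz⟩ := AlgSpDec.exists_amalgamation_jointly (F := Z.obj) Z.property
    (fun k => specHom (algebraMap A (B k)) str) (fun t => by obtain ⟨k, v, hv⟩ := hcover t; exact ⟨k, v, hv⟩)
    (fun k => (J _).uliftYonedaEquiv (y k)) (fun k l T a b hab => by
      rw [AlgSpLib.uliftYonedaEquiv_precomp, AlgSpLib.uliftYonedaEquiv_precomp,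
        agree_of_restr hZ hp str xU x' (y k) (y l) (hyU k) (hy' k) (hyU l) (hy' l) a b hab])
  let x : (yon _).obj (Over.mk str) ⟶ Z := (J _).uliftYonedaEquiv.symm z
  have hx : ∀ k, (yon _).map (specHom (algebraMap A (B k)) str) ≫ x = y k := fun k => by
    apply (J _).uliftYonedaEquiv.injective
    rw [← AlgSpLib.uliftYonedaEquiv_precomp, Equiv.apply_symm_apply, hz]
  refine ⟨x, ?_, ?_⟩
  · let m : ∀ k, Over.mk (Spec.map (CommRingCat.ofHom (algebraMap (B k) (Localization.Away (algebraMap A (B k) g)))) ≫
        Spec.map (CommRingCat.ofHom (algebraMap A (B k))) ≫ str) ⟶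
        Over.mk (Spec.map (CommRingCat.ofHom (algebraMap A (Localization.Away g))) ≫ str) := fun k =>
      Over.homMk (Spec.map (CommRingCat.ofHom (Localization.awayMap (algebraMap A (B k)) g))) (by
        show _ ≫ _ ≫ _ = Spec.map _ ≫ Spec.map _ ≫ str
        rw [← specHom_comp, ← specHom_comp,
          show (Localization.awayMap (algebraMap A (B k)) g).comp (algebraMap A (Localization.Away g)) =
            (algebraMap (B k) (Localization.Away (algebraMap A (B k) g))).comp (algebraMap A (B k))
          from awayMap_comp _ _])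
    have hmk : ∀ k, specHom (algebraMap (B k) (Localization.Away (algebraMap A (B k) g))) _ ≫
        specHom (algebraMap A (B k)) str = m k ≫ specHom (algebraMap A (Localization.Away g)) str := fun k => by
      ext1
      show Spec.map _ ≫ Spec.map _ = Spec.map _ ≫ Spec.map _
      rw [← Spec.map_comp, ← Spec.map_comp, ← CommRingCat.ofHom_comp, ← CommRingCat.ofHom_comp,
        show (Localization.awayMap (algebraMap A (B k)) g).comp (algebraMap A (Localization.Away g)) =
            (algebraMap (B k) (Localization.Away (algebraMap A (B k) g))).comp (algebraMap A (B k))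
          from awayMap_comp _ _]
    haveI hm : ∀ k, Etale (m k).left := fun k => by
      haveI : IsOpenImmersion (specHom (algebraMap A (Localization.Away g)) str).left :=
        IsOpenImmersion.of_isLocalization (S := Localization.Away g) g
      haveI : IsOpenImmersion
          (Spec.map (CommRingCat.ofHom (algebraMap (B k) (Localization.Away (algebraMap A (B k) g))))) :=
        IsOpenImmersion.of_isLocalization (algebraMap A (B k) g)
      haveI : Etale ((m k).left ≫ (specHom (algebraMap A (Localization.Away g)) str).left) := by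
        rw [← Over.comp_left, ← hmk k]
        show Etale (Spec.map _ ≫ (specHom (algebraMap A (B k)) str).left)
        infer_instance
      exact Etale.of_comp _ (specHom (algebraMap A (Localization.Away g)) str).left
    refine AlgSpLib.hom_ext_of_covering _ _ (R := Sieve.generate (Presieve.ofArrows _ m)) ?_ ?_
    · refine AlgSpDec.mem_J_of_jointly m (fun q => ?_) _ fun k => Sieve.le_generate _ _ _ (Presieve.ofArrows.mk k)
      obtain ⟨k, b, hb⟩ := hcover (Spec.map (CommRingCat.ofHom (algebraMap A (Localization.Away g))) q)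
      have hgb : b ∈ PrimeSpectrum.basicOpen (algebraMap A (B k) g) := by
        intro h
        have hgq : g ∈ (Spec.map (CommRingCat.ofHom (algebraMap A (Localization.Away g))) q).asIdeal := hb ▸ h
        exact q.isPrime.ne_top (Ideal.eq_top_of_isUnit_mem _ hgq (IsLocalization.Away.algebraMap_isUnit g))
      change b ∈ ((PrimeSpectrum.basicOpen (algebraMap A (B k) g) : TopologicalSpace.Opens (PrimeSpectrum (B k))) : Set (PrimeSpectrum (B k))) at hgb
      rw [← PrimeSpectrum.localization_away_comap_range
        (Localization.Away (algebraMap A (B k) g))] at hgb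
      obtain ⟨d, rfl⟩ := hgb
      refine ⟨k, d, ?_⟩
      haveI : IsOpenImmersion (Spec.map (CommRingCat.ofHom (algebraMap A (Localization.Away g)))) :=
        IsOpenImmersion.of_isLocalization (S := Localization.Away g) g
      refine (Spec.map (CommRingCat.ofHom (algebraMap A (Localization.Away g)))).isOpenEmbedding.injective ?_
      rw [← hb, ← Scheme.Hom.comp_apply]
      exact (congrArg (fun f => f.left d) (hmk k)).symm
    · rintro T _ ⟨_, φ, _, ⟨k⟩, rfl⟩
      rw [Functor.map_comp, Category.assoc, Category.assoc]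
      congr 1
      refine (yon_comp _ _ _).trans ?_
      rw [← hmk k, Functor.map_comp, Category.assoc, hx k]
      exact hyU k _ _ _ (m k) (hmk k)
  · let m : ∀ k, Over.mk (Spec.map (CommRingCat.ofHom (Algebra.TensorProduct.includeRight (R := A) (A := A') (B := B k)).toRingHom) ≫
        Spec.map (CommRingCat.ofHom (algebraMap A (B k))) ≫ str) ⟶
        Over.mk (Spec.map (CommRingCat.ofHom (algebraMap A A')) ≫ str) := fun k =>
      Over.homMk (Spec.map (CommRingCat.ofHom (Algebra.TensorProduct.includeLeftRingHom (R := A) (A := A') (B := B k)))) (by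
        show _ ≫ _ ≫ _ = Spec.map _ ≫ Spec.map _ ≫ str
        rw [← specHom_comp, ← specHom_comp]
        congr 3
        exact RingHom.ext fun r => ((Algebra.TensorProduct.includeLeft (R := A) (S := A) (A := A') (B := B k)).commutes r).trans
          ((Algebra.TensorProduct.includeRight (R := A) (A := A') (B := B k)).commutes r).symm)
    have hmk : ∀ k, specHom (Algebra.TensorProduct.includeRight (R := A) (A := A') (B := B k)).toRingHom _ ≫
        specHom (algebraMap A (B k)) str = m k ≫ specHom (algebraMap A A') str := fun k => by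
      ext1
      show Spec.map _ ≫ Spec.map _ = Spec.map _ ≫ Spec.map _
      rw [← Spec.map_comp, ← Spec.map_comp, ← CommRingCat.ofHom_comp, ← CommRingCat.ofHom_comp]
      congr 2
      exact RingHom.ext fun r => ((Algebra.TensorProduct.includeRight (R := A) (A := A') (B := B k)).commutes r).trans
        ((Algebra.TensorProduct.includeLeft (R := A) (S := A) (A := A') (B := B k)).commutes r).symm
    haveI hm : ∀ k, Etale (m k).left := fun k => by
      show Etale (Spec.map (CommRingCat.ofHom (Algebra.TensorProduct.includeLeftRingHom (R := A) (A := A') (B := B k))))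
      rw [← pullbackSpecIso_inv_fst]
      haveI : Etale (Spec.map (CommRingCat.ofHom (algebraMap A (B k)))) := hetS k
      infer_instance
    refine AlgSpLib.hom_ext_of_covering _ _ (R := Sieve.generate (Presieve.ofArrows _ m)) ?_ ?_
    · refine AlgSpDec.mem_J_of_jointly m (fun q => ?_) _ fun k => Sieve.le_generate _ _ _ (Presieve.ofArrows.mk k)
      obtain ⟨k, b, hb⟩ := hcover (Spec.map (CommRingCat.ofHom (algebraMap A A')) q)
      obtain ⟨z, hz1, -⟩ := Scheme.Pullback.exists_preimage_pullback (f := Spec.map (CommRingCat.ofHom (algebraMap A A')))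
        (g := Spec.map (CommRingCat.ofHom (algebraMap A (B k)))) q b hb.symm
      refine ⟨k, (pullbackSpecIso A A' (B k)).hom z, ?_⟩
      show Spec.map (CommRingCat.ofHom (Algebra.TensorProduct.includeLeftRingHom (R := A) (A := A') (B := B k))) _ = q
      rw [← Scheme.Hom.comp_apply, pullbackSpecIso_hom_fst, hz1]
    · rintro T _ ⟨_, φ, _, ⟨k⟩, rfl⟩
      rw [Functor.map_comp, Category.assoc, Category.assoc]
      congr 1
      refine (yon_comp _ _ _).trans ?_
      rw [← hmk k, Functor.map_comp, Category.assoc, hx k]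
      exact hy' k _ _ _ (m k) (hmk k)

end Groth.Agent.EtGlueSp
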