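import Groth.Prelude.Def_EtGlue
import Groth.Agent.EtGlueSp.Ring
import Groth.Agent.EtGlueSp.Charts
import Mathlib.RingTheory.Flat.EquationalCriterion

/-!
# Glueable algebraic spaces over the base of a glueing pair
-/

set_option autoImplicit false
set_option backward.isDefEq.respectTransparency.types false

universe u

open CategoryTheory CategoryTheory.Limits AlgebraicGeometry Opposite AlgSp TensorProduct

namespace Groth.Agent.EtGlueSp

/-- An element vanishing in a jointly surjective family of flat algebras vanishes. -/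
theorem eq_zero_of_jointly_flat {A : Type u} [CommRing A] {κ : Type u} {B : κ → Type u} [∀ k, CommRing (B k)]
    [∀ k, Algebra A (B k)] [∀ k, Module.Flat A (B k)]
    (hs : ∀ t : PrimeSpectrum A, ∃ k, ∃ q : PrimeSpectrum (B k), PrimeSpectrum.comap (algebraMap A (B k)) q = t)
    {a : A} (ha : ∀ k, algebraMap A (B k) a = 0) : a = 0 := by
  by_contra hne
  have hI : Submodule.colon (⊥ : Ideal A) {a} ≠ ⊤ := fun h => hne (by
    have : (1 : A) ∈ Submodule.colon (⊥ : Ideal A) {a} := h ▸ Submodule.mem_top
    simpa using this)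
  obtain ⟨M, hM, hle⟩ := Ideal.exists_le_maximal _ hI
  obtain ⟨k, q, hq⟩ := hs ⟨M, hM.isPrime⟩
  have hrel : ∑ i : Fin 1, a • (1 : B k) = 0 := by simp [Algebra.smul_def, ha k]
  obtain ⟨n, c, y, hy, hc⟩ := Module.Flat.isTrivialRelation_of_sum_smul_eq_zero (f := fun _ : Fin 1 => a) hrel
  have h1 : (1 : B k) ∈ q.asIdeal := by
    rw [show (1 : B k) = ∑ j, c 0 j • y j from hy 0]
    refine Submodule.sum_mem _ fun j _ => ?_
    rw [Algebra.smul_def]
    refine q.asIdeal.mul_mem_right _ ?_
    have hm : c 0 j ∈ M := hle (by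
      have := hc j
      simp only [Fin.sum_univ_one] at this
      simpa [mul_comm] using this)
    have := congrArg PrimeSpectrum.asIdeal hq
    rw [← Ideal.mem_comap]
    show c 0 j ∈ (PrimeSpectrum.comap (algebraMap A (B k)) q).asIdeal
    rw [this]
    exact hm
  exact q.isPrime.ne_top ((Ideal.eq_top_iff_one _).2 h1)

variable {R : Type u} [CommRing R]

/-- An affine scheme over `Spec R` as the spectrum of an algebra. -/
noncomputable abbrev specOver (A : Type u) [CommRing A] [Algebra R A] : Over (Spec (CommRingCat.of R)) :=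
  Over.mk (Spec.map (CommRingCat.ofHom (algebraMap R A)))

/-- The affine opens of an atlas, as spectra of algebras. -/
theorem exists_charts {Y : Sp (Spec (CommRingCat.of R))} (hY : IsAlgSpace Y) :
    ∃ (U : Over (Spec (CommRingCat.of R))) (p : (yon _).obj U ⟶ Y) (_ : RepWith @Etale p) (_ : RepWith @Surjective p)
      (ι : Type u) (A : ι → Type u) (_ : ∀ k, CommRing (A k)) (_ : ∀ k, Algebra R (A k))
      (j : ∀ k, specOver (R := R) (A k) ⟶ U),
      (∀ k, Etale (j k).left) ∧ (∀ x : U.left, ∃ k, x ∈ Set.range (j k).left) ∧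
        ∀ k, RepWith @Etale ((yon _).map (j k) ≫ p) := by
  obtain ⟨U, p, hpe, hps, ι, A, str, j, hj, hcov⟩ := exists_affine_family hY
  letI alg : ∀ k, Algebra R (A k) := fun k => (Spec.preimage (str k)).hom.toAlgebra
  have e : ∀ k, Spec.map (CommRingCat.ofHom (algebraMap R (A k))) = str k := fun k => Spec.map_preimage (str k)
  let j' : ∀ k, specOver (R := R) (A k) ⟶ U := fun k =>
    Over.homMk (j k).left ((Over.w (j k)).trans (e k).symm)
  have hje : ∀ k, Etale (j' k).left := fun k => by
    have := hj k
    show Etale (j k).left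
    infer_instance
  exact ⟨U, p, hpe, hps, ι, fun k => A k, fun k => inferInstance, alg, j', hje, hcov,
    fun k => haveI := hje k; repWith_etale_comp (j' k) hpe⟩

end Groth.Agent.EtGlueSp
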