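import Groth.Agent.EtGlueSp.Coord
import Groth.Agent.EtGlueSp.Glueable
import Groth.Agent.EtGlue7.Glueing

/-!
# Glueing a map locally along an affine chart
-/

set_option autoImplicit false
set_option backward.isDefEq.respectTransparency.types false

universe u

open CategoryTheory CategoryTheory.Limits AlgebraicGeometry Opposite AlgSp TensorProduct

namespace Groth.Agent.EtGlueSp

theorem etale_bcHom_self {A A' B B₂ : Type u} [CommRing A] [CommRing A'] [Algebra A A'] [CommRing B] [Algebra A B]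
    [CommRing B₂] [Algebra A' B₂] (e' : A' ⊗[A] B ≃+* B₂)
    (he' : ∀ x : A', e' (x ⊗ₜ[A] (1 : B)) = algebraMap A' B₂ x) (het : (algebraMap A' B₂).Etale) :
    (EtGlue7.bcHom A A B A').toRingHom.Etale := by
  have e : (EtGlue7.bcHom A A B A').toRingHom =
      (e'.symm.toRingHom.comp (algebraMap A' B₂)).comp (Algebra.TensorProduct.rid A A' A').toRingEquiv.toRingHom := by
    apply RingHom.ext
    intro t
    induction t with
    | zero => simp
    | tmul x a =>
      show x ⊗ₜ[A] algebraMap A B a = e'.symm (algebraMap A' B₂ (a • x))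
      rw [← he', RingEquiv.symm_apply_apply, Algebra.algebraMap_eq_smul_one a, tmul_smul, smul_tmul']
    | add x y hx hy => rw [map_add, map_add, hx, hy]
  rw [e]
  exact RingHom.Etale.stableUnderComposition _ _
    (RingHom.Etale.of_bijective (Algebra.TensorProduct.rid A A' A').bijective)
    (RingHom.Etale.stableUnderComposition _ _ het (RingHom.Etale.of_bijective e'.symm.bijective))

attribute [local instance] Algebra.TensorProduct.rightAlgebra

variable {R : Type u} [CommRing R] {Z : Sp (Spec (CommRingCat.of R))} {A A' : Type u} [CommRing A] [CommRing A']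
  [Algebra A A'] {g : A}

/-- A compatible pair of maps on the two pieces of a glueing pair. -/
def Compat (str : Spec (CommRingCat.of A) ⟶ Spec (CommRingCat.of R))
    (xU : (yon _).obj (Over.mk (Spec.map (CommRingCat.ofHom (algebraMap A (Localization.Away g))) ≫ str)) ⟶ Z)
    (x' : (yon _).obj (Over.mk (Spec.map (CommRingCat.ofHom (algebraMap A A')) ≫ str)) ⟶ Z) : Prop :=
  ∀ (T : Over (Spec (CommRingCat.of R)))
    (m : T ⟶ Over.mk (Spec.map (CommRingCat.ofHom (algebraMap A (Localization.Away g))) ≫ str))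
    (n : T ⟶ Over.mk (Spec.map (CommRingCat.ofHom (algebraMap A A')) ≫ str)),
    m ≫ specHom (algebraMap A (Localization.Away g)) str = n ≫ specHom (algebraMap A A') str →
      (yon _).map m ≫ xU = (yon _).map n ≫ x'

/-- `y` restricts to `x` along `φ`. -/
def IsRestr {A B C : Type u} [CommRing A] [CommRing B] [CommRing C] (str : Spec (CommRingCat.of A) ⟶ Spec (CommRingCat.of R))
    (ψ : A →+* B) (φ : A →+* C) (y : (yon _).obj (Over.mk (Spec.map (CommRingCat.ofHom ψ) ≫ str)) ⟶ Z)
    (x : (yon _).obj (Over.mk (Spec.map (CommRingCat.ofHom φ) ≫ str)) ⟶ Z) : Prop :=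
  ∀ (D : Type u) [CommRing D] (s : Spec (CommRingCat.of D) ⟶ Spec (CommRingCat.of R))
    (r : Over.mk s ⟶ Over.mk (Spec.map (CommRingCat.ofHom ψ) ≫ str))
    (m : Over.mk s ⟶ Over.mk (Spec.map (CommRingCat.ofHom φ) ≫ str)),
    r ≫ specHom ψ str = m ≫ specHom φ str → (yon _).map r ≫ y = (yon _).map m ≫ x

/-- The ring map underlying a morphism of spectra over the base. -/
theorem exists_ringHom {S : Scheme.{u}} {B D : Type u} [CommRing B] [CommRing D] {t : Spec (CommRingCat.of B) ⟶ S}
    {s : Spec (CommRingCat.of D) ⟶ S} (r : Over.mk s ⟶ Over.mk t) :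
    ∃ δ : B →+* D, r.left = Spec.map (CommRingCat.ofHom δ) :=
  ⟨(Spec.preimage r.left).hom, (Spec.map_preimage r.left).symm⟩

theorem ringHom_eq {A B : Type u} [CommRing A] [CommRing B] {f₁ f₂ : A →+* B}
    (h : Spec.map (CommRingCat.ofHom f₁) = Spec.map (CommRingCat.ofHom f₂)) : f₁ = f₂ := by
  simpa using congrArg CommRingCat.Hom.hom (Spec.map_injective h)

theorem yon_comp {S : Scheme.{u}} {X : Sp S} {T T' T'' : Over S} (a : T ⟶ T') (b : T' ⟶ T'') (x : (yon S).obj T'' ⟶ X) :
    (yon S).map a ≫ (yon S).map b ≫ x = (yon S).map (a ≫ b) ≫ x := by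
  rw [Functor.map_comp, Category.assoc]

theorem exists_map {A B : Type u} [CommRing A] [CommRing B]
    (f : Spec (CommRingCat.of B) ⟶ Spec (CommRingCat.of A)) :
    ∃ a : A →+* B, f = Spec.map (CommRingCat.ofHom a) :=
  ⟨(Spec.preimage f).hom, (Spec.map_preimage f).symm⟩

theorem exists_local (hp : EtGlue.IsGlueingPair A A' g) (hd : IsAffineMor (Limits.diag Z))
    {V : Over (Spec (CommRingCat.of R))} [IsAffine V.left] {c : (yon _).obj V ⟶ Z} (hc : RepWith @Etale c)
    (str : Spec (CommRingCat.of A) ⟶ Spec (CommRingCat.of R))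
    (xU : (yon _).obj (Over.mk (Spec.map (CommRingCat.ofHom (algebraMap A (Localization.Away g))) ≫ str)) ⟶ Z)
    (x' : (yon _).obj (Over.mk (Spec.map (CommRingCat.ofHom (algebraMap A A')) ≫ str)) ⟶ Z)
    (compat : Compat str xU x') :
    ∃ (B : Type u) (_ : CommRing B) (_ : Algebra A B)
      (y : (yon _).obj (Over.mk (Spec.map (CommRingCat.ofHom (algebraMap A B)) ≫ str)) ⟶ Z),
      (algebraMap A B).Etale ∧ IsRestr str (algebraMap A B) (algebraMap A (Localization.Away g)) y xU ∧
      IsRestr str (algebraMap A B) (algebraMap A A') y x' ∧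
      (∀ (q : Spec (CommRingCat.of (Localization.Away g))) (v : V.left), Points.ofPt xU q = Points.ofPt c v →
        Spec.map (CommRingCat.ofHom (algebraMap A (Localization.Away g))) q ∈
          Set.range (Spec.map (CommRingCat.ofHom (algebraMap A B)))) ∧
      (∀ (q : Spec (CommRingCat.of A')) (v : V.left), Points.ofPt x' q = Points.ofPt c v →
        Spec.map (CommRingCat.ofHom (algebraMap A A')) q ∈
          Set.range (Spec.map (CommRingCat.ofHom (algebraMap A B)))) := by
  -- coordinates on the two pieces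
  obtain ⟨B₁, _, _, w₁, het₁, hw₁, huniv₁, hpt₁⟩ := exists_coord hd hc (Localization.Away g) _ xU
  obtain ⟨B₂, _, _, w₂, het₂, hw₂, huniv₂, hpt₂⟩ := exists_coord hd hc A' _ x'
  letI : Algebra A B₁ := ((algebraMap (Localization.Away g) B₁).comp (algebraMap A _)).toAlgebra
  haveI : IsScalarTower A (Localization.Away g) B₁ := .of_algebraMap_eq' rfl
  letI : Algebra A B₂ := ((algebraMap A' B₂).comp (algebraMap A _)).toAlgebra
  haveI : IsScalarTower A A' B₂ := .of_algebraMap_eq' rfl
  have hu₁ : IsUnit (algebraMap A B₁ g) :=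
    (IsLocalization.Away.algebraMap_isUnit g).map (algebraMap (Localization.Away g) B₁)
  -- `B₂` to `A' ⊗ B₁`
  let inR : B₁ →+* A' ⊗[A] B₁ := (Algebra.TensorProduct.includeRight (R := A) (A := A') (B := B₁)).toRingHom
  have hinR : ∀ a : A, inR (algebraMap A B₁ a) = algebraMap A' (A' ⊗[A] B₁) (algebraMap A A' a) := fun a =>
    ((Algebra.TensorProduct.includeRight (R := A) (A := A') (B := B₁)).commutes a).trans
      (IsScalarTower.algebraMap_apply A A' _ a)
  let r₁ : Over.mk (Spec.map (CommRingCat.ofHom (algebraMap A' (A' ⊗[A] B₁))) ≫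
      Spec.map (CommRingCat.ofHom (algebraMap A A')) ≫ str) ⟶
      Over.mk (Spec.map (CommRingCat.ofHom (algebraMap (Localization.Away g) B₁)) ≫
        Spec.map (CommRingCat.ofHom (algebraMap A (Localization.Away g))) ≫ str) :=
    Over.homMk (Spec.map (CommRingCat.ofHom inR)) (by
      show _ ≫ _ ≫ _ ≫ _ = Spec.map _ ≫ Spec.map _ ≫ _
      simp only [← Category.assoc, ← Spec.map_comp, ← CommRingCat.ofHom_comp]
      rw [show inR.comp ((algebraMap (Localization.Away g) B₁).comp (algebraMap A (Localization.Away g))) =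
        (algebraMap A' (A' ⊗[A] B₁)).comp (algebraMap A A') from RingHom.ext hinR])
  have hv₂ : (yon _).map (r₁ ≫ w₁) ≫ c = (yon _).map (specHom (algebraMap A' (A' ⊗[A] B₁)) _) ≫ x' := by
    rw [Functor.map_comp, Category.assoc, hw₁]
    refine (yon_comp _ _ _).trans (compat _ _ _ ?_)
    ext1
    show (_ ≫ _) ≫ _ = _ ≫ _
    simp only [r₁, Over.homMk_left, ← Spec.map_comp, ← CommRingCat.ofHom_comp]
    rw [show (inR.comp (algebraMap (Localization.Away g) B₁)).comp (algebraMap A (Localization.Away g)) =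
        (algebraMap A' (A' ⊗[A] B₁)).comp (algebraMap A A') from RingHom.ext hinR]
  obtain ⟨θ, hθ, -⟩ := huniv₂ _ _ hv₂
  have huθ : ∀ y : Submonoid.powers (algebraMap A B₂ g), IsUnit (θ y) := fun ⟨_, n, rfl⟩ => by
    simp only [map_pow]
    refine IsUnit.pow _ ?_
    rw [show algebraMap A B₂ g = algebraMap A' B₂ (algebraMap A A' g) from rfl, AlgHom.commutes, ← hinR]
    exact hu₁.map inR
  let Φ : Localization.Away (algebraMap A B₂ g) →ₐ[A'] A' ⊗[A] B₁ := IsLocalization.liftAlgHom (f := θ) huθ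
  have hΦ : ∀ b, Φ (algebraMap B₂ _ b) = θ b := fun b => IsLocalization.lift_eq huθ b
  -- and back
  let L₂ := Localization.Away (algebraMap A B₂ g)
  have huL : IsUnit (algebraMap A L₂ g) := by
    rw [IsScalarTower.algebraMap_apply A B₂ L₂]
    exact IsLocalization.Away.algebraMap_isUnit _
  letI : Algebra (Localization.Away g) L₂ := (IsLocalization.Away.lift g huL).toAlgebra
  haveI : IsScalarTower A (Localization.Away g) L₂ :=
    .of_algebraMap_eq fun a => (IsLocalization.Away.lift_eq g huL a).symm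
  let r₂ : Over.mk (Spec.map (CommRingCat.ofHom (algebraMap (Localization.Away g) L₂)) ≫
      Spec.map (CommRingCat.ofHom (algebraMap A (Localization.Away g))) ≫ str) ⟶
      Over.mk (Spec.map (CommRingCat.ofHom (algebraMap A' B₂)) ≫
        Spec.map (CommRingCat.ofHom (algebraMap A A')) ≫ str) :=
    Over.homMk (Spec.map (CommRingCat.ofHom (algebraMap B₂ L₂))) (by
      show _ ≫ _ ≫ _ ≫ _ = Spec.map _ ≫ Spec.map _ ≫ _
      simp only [← Category.assoc, ← Spec.map_comp, ← CommRingCat.ofHom_comp]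
      rw [← IsScalarTower.algebraMap_eq A (Localization.Away g) L₂, ← IsScalarTower.algebraMap_eq A A' B₂,
        ← IsScalarTower.algebraMap_eq A B₂ L₂])
  have hv₁ : (yon _).map (r₂ ≫ w₂) ≫ c =
      (yon _).map (specHom (algebraMap (Localization.Away g) L₂) _) ≫ xU := by
    rw [Functor.map_comp, Category.assoc, hw₂]
    refine (yon_comp _ _ _).trans (compat _ _ _ ?_).symm
    ext1
    show _ ≫ _ = (_ ≫ _) ≫ _
    simp only [r₂, Over.homMk_left, ← Spec.map_comp, ← CommRingCat.ofHom_comp]
    rw [← IsScalarTower.algebraMap_eq A (Localization.Away g) L₂, RingHom.comp_assoc,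
      ← IsScalarTower.algebraMap_eq A A' B₂, ← IsScalarTower.algebraMap_eq A B₂ L₂]
  obtain ⟨η, hη, -⟩ := huniv₁ _ _ hv₁
  let Ψ : A' ⊗[A] B₁ →ₐ[A'] L₂ :=
    Algebra.TensorProduct.lift (Algebra.ofId A' L₂) (η.restrictScalars A) fun _ _ => Commute.all _ _
  have hΨ : ∀ b, Ψ ((1 : A') ⊗ₜ[A] b) = η b := fun b => by simp [Ψ]
  have hθ' : Spec.map (CommRingCat.ofHom θ.toRingHom) ≫ w₂.left = Spec.map (CommRingCat.ofHom inR) ≫ w₁.left := hθ
  have hη' : Spec.map (CommRingCat.ofHom η.toRingHom) ≫ w₁.left =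
      Spec.map (CommRingCat.ofHom (algebraMap B₂ L₂)) ≫ w₂.left := hη
  have h21 : Ψ.comp Φ = AlgHom.id A' L₂ := by
    refine IsLocalization.algHom_ext (Submonoid.powers (algebraMap A B₂ g)) ?_
    let r₃ : Over.mk (Spec.map (CommRingCat.ofHom (algebraMap A' L₂)) ≫
        Spec.map (CommRingCat.ofHom (algebraMap A A')) ≫ str) ⟶
        Over.mk (Spec.map (CommRingCat.ofHom (algebraMap A' B₂)) ≫
          Spec.map (CommRingCat.ofHom (algebraMap A A')) ≫ str) :=
      Over.homMk (Spec.map (CommRingCat.ofHom (algebraMap B₂ L₂))) (by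
        show _ ≫ _ ≫ _ = Spec.map _ ≫ _
        simp only [← Category.assoc, ← Spec.map_comp, ← CommRingCat.ofHom_comp]
        try rw [← IsScalarTower.algebraMap_eq A' B₂ L₂])
    have hv : (yon _).map (r₃ ≫ w₂) ≫ c = (yon _).map (specHom (algebraMap A' L₂) _) ≫ x' := by
      rw [Functor.map_comp, Category.assoc, hw₂]
      refine (yon_comp _ _ _).trans ?_
      congr 2
      ext1
      show _ ≫ _ = Spec.map _
      simp only [r₃, Over.homMk_left, ← Spec.map_comp, ← CommRingCat.ofHom_comp]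
      try rw [← IsScalarTower.algebraMap_eq A' B₂ L₂]
    apply (huniv₂ L₂ _ hv).unique
    · show Spec.map (CommRingCat.ofHom (((Ψ.comp Φ).toRingHom).comp (algebraMap B₂ L₂))) ≫ w₂.left = _
      rw [show ((Ψ.comp Φ).toRingHom).comp (algebraMap B₂ L₂) = Ψ.toRingHom.comp θ.toRingHom from
        RingHom.ext fun b => congrArg Ψ (hΦ b), CommRingCat.ofHom_comp, Spec.map_comp, Category.assoc, hθ',
        ← Category.assoc, ← Spec.map_comp, ← CommRingCat.ofHom_comp,
        show Ψ.toRingHom.comp inR = η.toRingHom from RingHom.ext hΨ, hη']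
      rfl
    · rfl
  have h12 : Φ.comp Ψ = AlgHom.id A' (A' ⊗[A] B₁) := by
    letI : Algebra (Localization.Away g) (A' ⊗[A] B₁) :=
      (inR.comp (algebraMap (Localization.Away g) B₁)).toAlgebra
    have hloc : Φ.toRingHom.comp (algebraMap (Localization.Away g) L₂) =
        algebraMap (Localization.Away g) (A' ⊗[A] B₁) := by
      refine IsLocalization.ringHom_ext (Submonoid.powers g) (RingHom.ext fun a => ?_)
      show Φ (algebraMap (Localization.Away g) L₂ (algebraMap A (Localization.Away g) a)) = inR (algebraMap A B₁ a)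
      rw [← IsScalarTower.algebraMap_apply, IsScalarTower.algebraMap_apply A A' L₂, AlgHom.commutes, hinR]
    let β₁ : B₁ →ₐ[Localization.Away g] A' ⊗[A] B₁ :=
      { Φ.toRingHom.comp η.toRingHom with
        commutes' := fun a => by
          show Φ (η (algebraMap _ B₁ a)) = _
          rw [η.commutes]
          exact RingHom.congr_fun hloc a }
    let β₂ : B₁ →ₐ[Localization.Away g] A' ⊗[A] B₁ := { inR with commutes' := fun a => rfl }
    let r₄ : Over.mk (Spec.map (CommRingCat.ofHom (algebraMap (Localization.Away g) (A' ⊗[A] B₁))) ≫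
        Spec.map (CommRingCat.ofHom (algebraMap A (Localization.Away g))) ≫ str) ⟶
        Over.mk (Spec.map (CommRingCat.ofHom (algebraMap (Localization.Away g) B₁)) ≫
          Spec.map (CommRingCat.ofHom (algebraMap A (Localization.Away g))) ≫ str) :=
      Over.homMk (Spec.map (CommRingCat.ofHom inR)) (by
        show _ ≫ _ ≫ _ = Spec.map _ ≫ _
        simp only [← Category.assoc, ← Spec.map_comp, ← CommRingCat.ofHom_comp]
        try rfl)
    have hv : (yon _).map (r₄ ≫ w₁) ≫ c =
        (yon _).map (specHom (algebraMap (Localization.Away g) (A' ⊗[A] B₁)) _) ≫ xU := by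
      rw [Functor.map_comp, Category.assoc, hw₁]
      refine (yon_comp _ _ _).trans ?_
      congr 2
      ext1
      show _ ≫ _ = Spec.map _
      simp only [r₄, Over.homMk_left, ← Spec.map_comp, ← CommRingCat.ofHom_comp]
      try rfl
    have hb : β₁ = β₂ := by
      apply (huniv₁ _ _ hv).unique
      · show Spec.map (CommRingCat.ofHom (Φ.toRingHom.comp η.toRingHom)) ≫ w₁.left = _
        rw [CommRingCat.ofHom_comp, Spec.map_comp, Category.assoc, hη', ← Category.assoc, ← Spec.map_comp,
          ← CommRingCat.ofHom_comp, show Φ.toRingHom.comp (algebraMap B₂ L₂) = θ.toRingHom from RingHom.ext hΦ, hθ']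
        rfl
      · rfl
    refine Algebra.TensorProduct.ext (AlgHom.ext fun x => ?_) (AlgHom.ext fun b => ?_)
    · show Φ (Ψ (algebraMap A' (A' ⊗[A] B₁) x)) = algebraMap A' (A' ⊗[A] B₁) x
      rw [AlgHom.commutes, AlgHom.commutes]
    · show Φ (Ψ ((1 : A') ⊗ₜ[A] b)) = (1 : A') ⊗ₜ[A] b
      rw [hΨ]
      exact congr($hb b)
  let φ : L₂ ≃ₐ[A'] A' ⊗[A] B₁ := AlgEquiv.ofAlgHom Φ Ψ h12 h21
  obtain ⟨B, _, _, hB, e₁, e', he⟩ := EtGlue7.exists_glueable_algebra hp B₁ hu₁ B₂ φ
  have hpB := EtGlue7.glueingPair_of_isGlueable hp.1 B hB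
  let q₁ : B →+* B₁ := e₁.toRingEquiv.toRingHom.comp (algebraMap B _)
  let q₂ : B →+* B₂ := e'.toRingEquiv.toRingHom.comp (Algebra.TensorProduct.includeRight (R := A) (A := A') (B := B)).toRingHom
  have hq₁a : q₁.comp (algebraMap A B) = algebraMap A B₁ := RingHom.ext fun a => by
    show e₁ (algebraMap B _ (algebraMap A B a)) = _
    rw [← IsScalarTower.algebraMap_apply, e₁.commutes]
  have hq₂a : q₂.comp (algebraMap A B) = algebraMap A B₂ := RingHom.ext fun a => by
    show e' ((Algebra.TensorProduct.includeRight (R := A) (A := A') (B := B)) (algebraMap A B a)) = _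
    rw [AlgHom.commutes]
    exact (e'.restrictScalars A).commutes a
  -- coordinates
  let k₁ : Γ(V.left, ⊤) →+* B₁ := (Spec.preimage (w₁.left ≫ V.left.isoSpec.hom)).hom
  let k₂ : Γ(V.left, ⊤) →+* B₂ := (Spec.preimage (w₂.left ≫ V.left.isoSpec.hom)).hom
  have hk : θ.toRingHom.comp k₂ = inR.comp k₁ := by
    apply ringHom_eq
    rw [CommRingCat.ofHom_comp, CommRingCat.ofHom_comp, Spec.map_comp, Spec.map_comp]
    show _ ≫ Spec.map (Spec.preimage _) = _ ≫ Spec.map (Spec.preimage _)
    rw [Spec.map_preimage, Spec.map_preimage, ← Category.assoc, hθ', Category.assoc]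
  let L := Localization.Away (algebraMap B (A' ⊗[A] B) (algebraMap A B g))
  let aw : Localization.Away (algebraMap A B g) →+* L := Localization.awayMap (algebraMap B (A' ⊗[A] B)) (algebraMap A B g)
  have haw : ∀ b, aw (algebraMap B _ b) = algebraMap (A' ⊗[A] B) L ((1 : A') ⊗ₜ[A] b) := fun b =>
    IsLocalization.map_eq _ b
  let f₁ : B₁ →ₐ[A] L :=
    { aw.comp e₁.symm.toRingEquiv.toRingHom with
      commutes' := fun a => by
        show aw (e₁.symm (algebraMap A B₁ a)) = _
        rw [e₁.symm.commutes, IsScalarTower.algebraMap_apply A B (Localization.Away (algebraMap A B g)) a, haw, IsScalarTower.algebraMap_apply A (A' ⊗[A] B) L]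
        congr 1
        exact (Algebra.TensorProduct.includeRight (R := A) (A := A') (B := B)).commutes a }
  let Ξ : A' ⊗[A] B₁ →ₐ[A'] L :=
    Algebra.TensorProduct.lift (Algebra.ofId A' L) f₁ fun _ _ => Commute.all _ _
  have hΞ1 : ∀ b, Ξ ((1 : A') ⊗ₜ[A] b) = aw (e₁.symm b) := fun b => by simp [Ξ, f₁]
  have hΞ : ∀ t : A' ⊗[A] B, Ξ (φ (algebraMap B₂ L₂ (e' t))) = algebraMap (A' ⊗[A] B) L t := by
    have : (Ξ.comp (φ.toAlgHom.comp ((IsScalarTower.toAlgHom A' B₂ L₂).comp e'.toAlgHom))) =
        IsScalarTower.toAlgHom A' (A' ⊗[A] B) L := by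
      refine Algebra.TensorProduct.ext (AlgHom.ext fun x => ?_) (AlgHom.ext fun b => ?_)
      · show (Ξ.comp (φ.toAlgHom.comp ((IsScalarTower.toAlgHom A' B₂ L₂).comp e'.toAlgHom)))
            (algebraMap A' (A' ⊗[A] B) x) = (IsScalarTower.toAlgHom A' (A' ⊗[A] B) L) (algebraMap A' (A' ⊗[A] B) x)
        rw [AlgHom.commutes, AlgHom.commutes]
      · show Ξ (φ (algebraMap B₂ L₂ (e' ((1 : A') ⊗ₜ[A] b)))) = algebraMap (A' ⊗[A] B) L ((1 : A') ⊗ₜ[A] b)
        rw [he, hΞ1, e₁.symm_apply_apply, haw]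
    exact fun t => congr($this t)
  obtain ⟨χ, hχ₁, hχ₂⟩ := exists_hom hpB (e₁.symm.toRingEquiv.toRingHom.comp k₁)
    (e'.symm.toRingEquiv.toRingHom.comp k₂) (RingHom.ext fun z => by
      show algebraMap (A' ⊗[A] B) L (e'.symm (k₂ z)) = aw (e₁.symm (k₁ z))
      rw [← hΞ, e'.apply_symm_apply, ← hΞ1]
      congr 1
      exact (hΦ _).trans (RingHom.congr_fun hk z))
  have hqχ₁ : q₁.comp χ = k₁ := RingHom.ext fun z => by
    show e₁ (algebraMap B _ (χ z)) = _
    rw [show algebraMap B _ (χ z) = e₁.symm (k₁ z) from RingHom.congr_fun hχ₁ z, e₁.apply_symm_apply]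
  have hqχ₂ : q₂.comp χ = k₂ := RingHom.ext fun z => by
    show e' ((1 : A') ⊗ₜ[A] χ z) = _
    rw [show (1 : A') ⊗ₜ[A] χ z = e'.symm (k₂ z) from RingHom.congr_fun hχ₂ z, e'.apply_symm_apply]
  have hs₁ : Spec.map (CommRingCat.ofHom q₁) ≫ Spec.map (CommRingCat.ofHom χ) ≫ V.left.isoSpec.inv = w₁.left := by
    rw [← Category.assoc, ← Spec.map_comp, ← CommRingCat.ofHom_comp, hqχ₁]
    show Spec.map (Spec.preimage _) ≫ _ = _
    rw [Spec.map_preimage, Category.assoc, Iso.hom_inv_id, Category.comp_id]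
  have hs₂ : Spec.map (CommRingCat.ofHom q₂) ≫ Spec.map (CommRingCat.ofHom χ) ≫ V.left.isoSpec.inv = w₂.left := by
    rw [← Category.assoc, ← Spec.map_comp, ← CommRingCat.ofHom_comp, hqχ₂]
    show Spec.map (Spec.preimage _) ≫ _ = _
    rw [Spec.map_preimage, Category.assoc, Iso.hom_inv_id, Category.comp_id]
  -- over the base
  have hover : (Spec.map (CommRingCat.ofHom χ) ≫ V.left.isoSpec.inv) ≫ V.hom =
      Spec.map (CommRingCat.ofHom (algebraMap A B)) ≫ str := by
    obtain ⟨a, ha⟩ : ∃ a : R →+* B, (Spec.map (CommRingCat.ofHom χ) ≫ V.left.isoSpec.inv) ≫ V.hom =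
        Spec.map (CommRingCat.ofHom a) := exists_map _
    obtain ⟨b, hb⟩ : ∃ b : R →+* B, Spec.map (CommRingCat.ofHom (algebraMap A B)) ≫ str =
        Spec.map (CommRingCat.ofHom b) := exists_map _
    have h1 : q₁.comp a = q₁.comp b := by
      apply ringHom_eq
      rw [CommRingCat.ofHom_comp (f := a) (g := q₁), CommRingCat.ofHom_comp (f := b) (g := q₁), Spec.map_comp, Spec.map_comp, ← ha, ← hb,
        ← Category.assoc _ _ V.hom, hs₁]
      refine (Over.w w₁).trans ?_
      show Spec.map _ ≫ Spec.map _ ≫ str = _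
      simp only [← Category.assoc, ← Spec.map_comp, ← CommRingCat.ofHom_comp, hq₁a]
      try rfl
    have h2 : q₂.comp a = q₂.comp b := by
      apply ringHom_eq
      rw [CommRingCat.ofHom_comp (f := a) (g := q₂), CommRingCat.ofHom_comp (f := b) (g := q₂), Spec.map_comp, Spec.map_comp, ← ha, ← hb,
        ← Category.assoc _ _ V.hom, hs₂]
      refine (Over.w w₂).trans ?_
      show Spec.map _ ≫ Spec.map _ ≫ str = _
      simp only [← Category.assoc, ← Spec.map_comp, ← CommRingCat.ofHom_comp, hq₂a]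
      try rfl
    rw [ha, hb, hom_ext hpB (RingHom.ext fun z => e₁.injective (RingHom.congr_fun h1 z))
      (RingHom.ext fun z => e'.injective (RingHom.congr_fun h2 z))]
  let v : Over.mk (Spec.map (CommRingCat.ofHom (algebraMap A B)) ≫ str) ⟶ V :=
    Over.homMk (Spec.map (CommRingCat.ofHom χ) ≫ V.left.isoSpec.inv) hover
  refine ⟨B, inferInstance, inferInstance, (yon _).map v ≫ c, ?_, ?_, ?_, fun q vq hq => ?_, fun q vq hq => ?_⟩
  · have hA : EtGlue.IsGlueable A A' g A := isGlueable_of_flat hp A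
    refine (EtGlue7.etale_iff (R := A) (A := A) (B := B) hp.1 hA).2 ⟨?_, ?_⟩
    · have e : (EtGlue7.locHom A B g) = e₁.symm.toRingEquiv.toRingHom.comp (algebraMap (Localization.Away g) B₁) := by
        refine IsLocalization.ringHom_ext (Submonoid.powers g) (RingHom.ext fun a => ?_)
        refine (EtGlue7.locHom_algebraMap a).trans ?_
        show _ = e₁.symm (algebraMap A B₁ a)
        rw [e₁.symm.commutes, ← IsScalarTower.algebraMap_apply]
        rfl
      rw [e]
      exact RingHom.Etale.stableUnderComposition _ _ het₁ (RingHom.Etale.of_bijective e₁.symm.bijective)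
    · exact etale_bcHom_self e'.toRingEquiv (fun x => e'.commutes x) het₂
  · intro D _ s r m hrm
    obtain ⟨δ, hδ⟩ := exists_ringHom r
    obtain ⟨γ, hγ⟩ := exists_ringHom m
    have hδγ : δ.comp (algebraMap A B) = γ.comp (algebraMap A (Localization.Away g)) := by
      apply ringHom_eq
      rw [CommRingCat.ofHom_comp, CommRingCat.ofHom_comp, Spec.map_comp, Spec.map_comp, ← hδ, ← hγ]
      exact congrArg CommaMorphism.left hrm
    have hu : IsUnit (δ (algebraMap A B g)) := by
      rw [← RingHom.comp_apply, hδγ]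
      exact (IsLocalization.Away.algebraMap_isUnit g).map γ
    let δ₁ : B₁ →+* D := (IsLocalization.Away.lift (algebraMap A B g) hu).comp e₁.symm.toRingEquiv.toRingHom
    have hδ₁ : δ₁.comp q₁ = δ := RingHom.ext fun b => by
      show IsLocalization.Away.lift _ hu (e₁.symm (e₁ (algebraMap B _ b))) = _
      rw [e₁.symm_apply_apply, IsLocalization.Away.lift_eq]
    have hδ₁γ : δ₁.comp (algebraMap (Localization.Away g) B₁) = γ := by
      refine IsLocalization.ringHom_ext (Submonoid.powers g) ?_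
      rw [← hδγ, ← hδ₁]
      exact ((RingHom.comp_assoc _ _ _).trans (congrArg δ₁.comp hq₁a.symm)).trans (RingHom.comp_assoc _ _ _).symm
    let r' : Over.mk s ⟶ Over.mk (Spec.map (CommRingCat.ofHom (algebraMap (Localization.Away g) B₁)) ≫
        Spec.map (CommRingCat.ofHom (algebraMap A (Localization.Away g))) ≫ str) :=
      Over.homMk (Spec.map (CommRingCat.ofHom δ₁)) (by
        show _ ≫ _ ≫ _ ≫ _ = s
        rw [← Category.assoc, ← Spec.map_comp, ← CommRingCat.ofHom_comp, hδ₁γ, ← hγ]
        exact Over.w m)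
    have e1 : r ≫ v = r' ≫ w₁ := by
      ext1
      show r.left ≫ _ = _ ≫ w₁.left
      rw [hδ, ← hδ₁, CommRingCat.ofHom_comp, Spec.map_comp, Category.assoc, ← hs₁]
      rfl
    have e2 : r' ≫ specHom (algebraMap (Localization.Away g) B₁) _ = m := by
      ext1
      show Spec.map _ ≫ Spec.map _ = m.left
      rw [hγ, ← Spec.map_comp, ← CommRingCat.ofHom_comp, hδ₁γ]
    rw [← Category.assoc, ← Functor.map_comp, e1, Functor.map_comp, Category.assoc, hw₁, ← Category.assoc,
      ← Functor.map_comp, e2]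
  · intro D _ s r m hrm
    obtain ⟨δ, hδ⟩ := exists_ringHom r
    obtain ⟨γ, hγ⟩ := exists_ringHom m
    have hδγ : δ.comp (algebraMap A B) = γ.comp (algebraMap A A') := by
      apply ringHom_eq
      rw [CommRingCat.ofHom_comp, CommRingCat.ofHom_comp, Spec.map_comp, Spec.map_comp, ← hδ, ← hγ]
      exact congrArg CommaMorphism.left hrm
    letI := (γ.comp (algebraMap A A')).toAlgebra
    let γa : A' →ₐ[A] D := { γ with commutes' := fun a => rfl }
    let δa : B →ₐ[A] D := { δ with commutes' := fun a => RingHom.congr_fun hδγ a }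
    let lift : A' ⊗[A] B →ₐ[A] D := Algebra.TensorProduct.lift γa δa fun _ _ => Commute.all _ _
    let δ₂ : B₂ →+* D := lift.toRingHom.comp e'.symm.toRingEquiv.toRingHom
    have hδ₂ : δ₂.comp q₂ = δ := RingHom.ext fun b => by
      show lift (e'.symm (e' ((1 : A') ⊗ₜ[A] b))) = _
      simp [e'.symm_apply_apply, lift, γa, δa]
    have hδ₂γ : δ₂.comp (algebraMap A' B₂) = γ := RingHom.ext fun x => by
      show lift (e'.symm (algebraMap A' B₂ x)) = _
      rw [e'.symm.commutes, Algebra.TensorProduct.algebraMap_apply]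
      simp [lift, γa, δa]
    let r' : Over.mk s ⟶ Over.mk (Spec.map (CommRingCat.ofHom (algebraMap A' B₂)) ≫
        Spec.map (CommRingCat.ofHom (algebraMap A A')) ≫ str) :=
      Over.homMk (Spec.map (CommRingCat.ofHom δ₂)) (by
        show _ ≫ _ ≫ _ ≫ _ = s
        rw [← Category.assoc, ← Spec.map_comp, ← CommRingCat.ofHom_comp, hδ₂γ, ← hγ]
        exact Over.w m)
    have e1 : r ≫ v = r' ≫ w₂ := by
      ext1
      show r.left ≫ _ = _ ≫ w₂.left
      rw [hδ, ← hδ₂, CommRingCat.ofHom_comp, Spec.map_comp, Category.assoc, ← hs₂]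
      rfl
    have e2 : r' ≫ specHom (algebraMap A' B₂) _ = m := by
      ext1
      show Spec.map _ ≫ Spec.map _ = m.left
      rw [hγ, ← Spec.map_comp, ← CommRingCat.ofHom_comp, hδ₂γ]
    rw [← Category.assoc, ← Functor.map_comp, e1, Functor.map_comp, Category.assoc, hw₂, ← Category.assoc,
      ← Functor.map_comp, e2]
  · obtain ⟨p, rfl⟩ := hpt₁ q vq hq
    refine ⟨Spec.map (CommRingCat.ofHom q₁) p, ?_⟩
    simp only [← Scheme.Hom.comp_apply, ← Spec.map_comp, ← CommRingCat.ofHom_comp, hq₁a]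
    try rfl
  · obtain ⟨p, rfl⟩ := hpt₂ q vq hq
    refine ⟨Spec.map (CommRingCat.ofHom q₂) p, ?_⟩
    simp only [← Scheme.Hom.comp_apply, ← Spec.map_comp, ← CommRingCat.ofHom_comp, hq₂a]
    try rfl

end Groth.Agent.EtGlueSp
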