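import Groth.Agent.EtGlueSp.GlueHom
import Groth.Agent.EtGlueSp.Glueable
import Mathlib.CategoryTheory.Sites.LocallySurjective
import Mathlib.CategoryTheory.Sites.RegularEpi

/-!
# Glueing morphisms of algebraic spaces along a glueing pair
-/

set_option autoImplicit false
set_option backward.isDefEq.respectTransparency false
set_option backward.isDefEq.respectTransparency.types false
set_option maxHeartbeats 800000

universe u

open CategoryTheory CategoryTheory.Limits AlgebraicGeometry Opposite AlgSp TensorProduct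

namespace Groth.Agent.EtGlueSp

attribute [local instance] Algebra.TensorProduct.rightAlgebra

/-- Morphisms of sheaves agree when they agree on all maps from representables. -/
theorem hom_ext_yon {S : Scheme.{u}} {F G : Sp S} (a b : F ⟶ G)
    (h : ∀ (T : Over S) (w : (yon S).obj T ⟶ F), w ≫ a = w ≫ b) : a = b := by
  ext T t
  have := congrArg (J S).uliftYonedaEquiv (h T.unop ((J S).uliftYonedaEquiv.symm t))
  rw [GrothendieckTopology.uliftYonedaEquiv_comp, GrothendieckTopology.uliftYonedaEquiv_comp,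
    Equiv.apply_symm_apply] at this
  exact this

variable {R R' : Type u} [CommRing R] [CommRing R'] [Algebra R R'] {f : R}

theorem hom_terminal_ext {F : Sp (Spec (CommRingCat.of R))} (u v : F ⟶ (yon _).obj (Over.mk (𝟙 _))) : u = v :=
  (Over.mkIdTerminal.isTerminalObj (yon (Spec (CommRingCat.of R))) _).hom_ext u v

/-- A map to `Z` is compatible with a map on the piece `P` of `Y`. -/
def Restricts {Y Z P : Sp (Spec (CommRingCat.of R))} (uP : P ⟶ Y) (W : P ⟶ Z) {T₀ : Over (Spec (CommRingCat.of R))}
    (g : (yon _).obj T₀ ⟶ Y) (x : (yon _).obj T₀ ⟶ Z) : Prop :=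
  ∀ (T : Over (Spec (CommRingCat.of R))) (u : T ⟶ T₀) (w : (yon _).obj T ⟶ P),
    w ≫ uP = (yon _).map u ≫ g → (yon _).map u ≫ x = w ≫ W

theorem Restricts.comp {Y Z P : Sp (Spec (CommRingCat.of R))} {uP : P ⟶ Y} {W : P ⟶ Z}
    {T₀ T₁ : Over (Spec (CommRingCat.of R))} {g : (yon _).obj T₀ ⟶ Y} {x : (yon _).obj T₀ ⟶ Z}
    (h : Restricts uP W g x) (q : T₁ ⟶ T₀) : Restricts uP W ((yon _).map q ≫ g) ((yon _).map q ≫ x) :=
  fun T u w e => by
    rw [← Category.assoc, ← Functor.map_comp]
    exact h T _ w (by rw [e, Functor.map_comp, Category.assoc])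

section Unique

variable {Y Z YU YX : Sp (Spec (CommRingCat.of R))}
  (πY : Y ⟶ (yon _).obj (Over.mk (𝟙 _)))
  (inU : specOver (R := R) (Localization.Away f) ⟶ Over.mk (𝟙 _)) (inX : specOver (R := R) R' ⟶ Over.mk (𝟙 _))
  {uY : YU ⟶ Y} {sY : YU ⟶ (yon _).obj (specOver (R := R) (Localization.Away f))}
  (hYU : IsPullback uY sY πY ((yon _).map inU))
  {xY : YX ⟶ Y} {rY : YX ⟶ (yon _).obj (specOver (R := R) R')} (hYX : IsPullback xY rY πY ((yon _).map inX))
  {WU : YU ⟶ Z} {WX : YX ⟶ Z}

include hYU hYX in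
/-- Uniqueness on a glueable chart. -/
theorem eq_of_restricts (hZ : IsAlgSpace Z) (hp : EtGlue.IsGlueingPair R R' f) {A : Type u} [CommRing A] [Algebra R A]
    (hA : EtGlue.IsGlueable R R' f A) (g : (yon _).obj (specOver (R := R) A) ⟶ Y)
    (x y : (yon _).obj (specOver (R := R) A) ⟶ Z) (hxU : Restricts uY WU g x) (hyU : Restricts uY WU g y)
    (hxX : Restricts xY WX g x) (hyX : Restricts xY WX g y) : x = y := by
  refine eq_of_glueingPair hZ (EtGlue7.glueingPair_of_isGlueable hp.1 A hA) _ _ _ ?_ ?_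
  · let n : Over.mk (Spec.map (CommRingCat.ofHom (algebraMap A (Localization.Away (algebraMap R A f)))) ≫
        Spec.map (CommRingCat.ofHom (algebraMap R A))) ⟶ specOver (R := R) (Localization.Away f) :=
      Over.homMk (Spec.map (CommRingCat.ofHom (Localization.awayMap (algebraMap R A) f))) (by
        show _ ≫ Spec.map _ = _ ≫ Spec.map _
        rw [← Spec.map_comp, ← Spec.map_comp, ← CommRingCat.ofHom_comp, ← CommRingCat.ofHom_comp, awayMap_comp])
    have hw := hYU.lift_fst ((yon _).map (specHom (algebraMap A (Localization.Away (algebraMap R A f))) _) ≫ g)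
      ((yon _).map n) (hom_terminal_ext _ _)
    exact (hxU _ _ _ hw).trans (hyU _ _ _ hw).symm
  · let n : Over.mk (Spec.map (CommRingCat.ofHom (algebraMap A (R' ⊗[R] A))) ≫
        Spec.map (CommRingCat.ofHom (algebraMap R A))) ⟶ specOver (R := R) R' :=
      Over.homMk (Spec.map (CommRingCat.ofHom
          (Algebra.TensorProduct.includeLeftRingHom : R' →+* R' ⊗[R] A))) (by
        show _ ≫ Spec.map _ = _ ≫ Spec.map _
        rw [← Spec.map_comp, ← Spec.map_comp, ← CommRingCat.ofHom_comp, ← CommRingCat.ofHom_comp]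
        congr 2
        exact RingHom.ext fun r => ((Algebra.TensorProduct.includeLeft (R := R) (S := R) (A := R') (B := A)).commutes r).trans
          ((Algebra.TensorProduct.includeRight (R := R) (A := R') (B := A)).commutes r).symm)
    have hw := hYX.lift_fst ((yon _).map (specHom (algebraMap A (R' ⊗[R] A)) _) ≫ g)
      ((yon _).map n) (hom_terminal_ext _ _)
    exact (hxX _ _ _ hw).trans (hyX _ _ _ hw).symm

variable {YU' : Sp (Spec (CommRingCat.of R))} {mY₁ : YU' ⟶ YU} {mY₂ : YU' ⟶ YX}

include hYU hYX in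
/-- Existence on a glueable chart. -/
theorem exists_restricts (hZ : IsAlgSpace Z) (hd : IsAffineMor (Limits.diag Z)) (hp : EtGlue.IsGlueingPair R R' f)
    (hYU' : IsPullback mY₁ mY₂ uY xY) (hW : mY₁ ≫ WU = mY₂ ≫ WX)
    {A : Type u} [CommRing A] [Algebra R A] (hA : EtGlue.IsGlueable R R' f A)
    (g : (yon _).obj (specOver (R := R) A) ⟶ Y) :
    ∃ x : (yon _).obj (specOver (R := R) A) ⟶ Z, Restricts uY WU g x ∧ Restricts xY WX g x := by
  let nU : Over.mk (Spec.map (CommRingCat.ofHom (algebraMap A (Localization.Away (algebraMap R A f)))) ≫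
      Spec.map (CommRingCat.ofHom (algebraMap R A))) ⟶ specOver (R := R) (Localization.Away f) :=
    Over.homMk (Spec.map (CommRingCat.ofHom (Localization.awayMap (algebraMap R A) f))) (by
      show _ ≫ Spec.map _ = _ ≫ Spec.map _
      rw [← Spec.map_comp, ← Spec.map_comp, ← CommRingCat.ofHom_comp, ← CommRingCat.ofHom_comp, awayMap_comp])
  let nX : Over.mk (Spec.map (CommRingCat.ofHom (algebraMap A (R' ⊗[R] A))) ≫
      Spec.map (CommRingCat.ofHom (algebraMap R A))) ⟶ specOver (R := R) R' :=
    Over.homMk (Spec.map (CommRingCat.ofHom (Algebra.TensorProduct.includeLeftRingHom : R' →+* R' ⊗[R] A))) (by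
      show _ ≫ Spec.map _ = _ ≫ Spec.map _
      rw [← Spec.map_comp, ← Spec.map_comp, ← CommRingCat.ofHom_comp, ← CommRingCat.ofHom_comp]
      congr 2
      exact RingHom.ext fun r => ((Algebra.TensorProduct.includeLeft (R := R) (S := R) (A := R') (B := A)).commutes r).trans
        ((Algebra.TensorProduct.includeRight (R := R) (A := R') (B := A)).commutes r).symm)
  let jU := specHom (algebraMap A (Localization.Away (algebraMap R A f))) (Spec.map (CommRingCat.ofHom (algebraMap R A)))
  let jX := specHom (algebraMap A (R' ⊗[R] A)) (Spec.map (CommRingCat.ofHom (algebraMap R A)))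
  let wU := hYU.lift ((yon _).map jU ≫ g) ((yon _).map nU) (hom_terminal_ext _ _)
  let wX := hYX.lift ((yon _).map jX ≫ g) ((yon _).map nX) (hom_terminal_ext _ _)
  have hwU : wU ≫ uY = (yon _).map jU ≫ g := hYU.lift_fst ..
  have hwX : wX ≫ xY = (yon _).map jX ≫ g := hYX.lift_fst ..
  obtain ⟨x, hxU, hxX⟩ := exists_glue (EtGlue7.glueingPair_of_isGlueable hp.1 A hA) hZ hd
    (Spec.map (CommRingCat.ofHom (algebraMap R A))) (wU ≫ WU) (wX ≫ WX) (fun T m n hmn => by
      have h : ((yon _).map m ≫ wU) ≫ uY = ((yon _).map n ≫ wX) ≫ xY := by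
        rw [Category.assoc, Category.assoc, hwU, hwX, ← Category.assoc, ← Category.assoc, ← Functor.map_comp,
          ← Functor.map_comp, hmn]
      rw [← Category.assoc, ← Category.assoc, ← hYU'.lift_fst _ _ h]
      conv_rhs => rw [← hYU'.lift_snd _ _ h]
      rw [Category.assoc, Category.assoc, hW])
  refine ⟨x, fun T u w e => ?_, fun T u w e => ?_⟩
  · obtain ⟨n₀, hn₀⟩ := (yon _).map_surjective (w ≫ sY)
    haveI : IsOpenImmersion (Spec.map (CommRingCat.ofHom (algebraMap A (Localization.Away (algebraMap R A f))))) :=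
      IsOpenImmersion.of_isLocalization (algebraMap R A f)
    haveI : IsOpenImmersion (Spec.map (CommRingCat.ofHom (algebraMap R (Localization.Away f)))) :=
      IsOpenImmersion.of_isLocalization (S := Localization.Away f) f
    have hu : u.left ≫ Spec.map (CommRingCat.ofHom (algebraMap R A)) =
        n₀.left ≫ Spec.map (CommRingCat.ofHom (algebraMap R (Localization.Away f))) :=
      (Over.w u).trans (Over.w n₀).symm
    have hr : Set.range u.left ⊆
        Set.range (Spec.map (CommRingCat.ofHom (algebraMap A (Localization.Away (algebraMap R A f))))) := by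
      rintro _ ⟨t, rfl⟩
      show u.left t ∈ Set.range (PrimeSpectrum.comap (algebraMap A (Localization.Away (algebraMap R A f))))
      rw [PrimeSpectrum.localization_away_comap_range (Localization.Away (algebraMap R A f)) (algebraMap R A f)]
      have h' : (Spec.map (CommRingCat.ofHom (algebraMap R A))) (u.left t) ∈
          Set.range (PrimeSpectrum.comap (algebraMap R (Localization.Away f))) := by
        exact ⟨n₀.left t, (congrArg (fun h => h t) hu).symm⟩
      rw [PrimeSpectrum.localization_away_comap_range (Localization.Away f) f] at h'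
      exact h'
    let m : T ⟶ Over.mk (Spec.map (CommRingCat.ofHom (algebraMap A (Localization.Away (algebraMap R A f)))) ≫
        Spec.map (CommRingCat.ofHom (algebraMap R A))) :=
      Over.homMk (IsOpenImmersion.lift _ u.left hr) (by
        show _ ≫ _ ≫ _ = T.hom
        rw [IsOpenImmersion.lift_fac_assoc]
        exact Over.w u)
    have hm : m ≫ jU = u := by ext1; exact IsOpenImmersion.lift_fac _ _ hr
    have hw : (yon _).map m ≫ wU = w := by
      refine hYU.hom_ext ?_ ?_
      · rw [Category.assoc, hwU, ← Category.assoc, ← Functor.map_comp, hm, e]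
      · rw [Category.assoc, hYU.lift_snd, ← Functor.map_comp, ← hn₀]
        congr 1
        ext1
        rw [← cancel_mono (Spec.map (CommRingCat.ofHom (algebraMap R (Localization.Away f))))]
        exact (Over.w (m ≫ nU)).trans (Over.w n₀).symm
    rw [← hm, Functor.map_comp, Category.assoc, hxU, ← Category.assoc, hw]
  · obtain ⟨n₀, hn₀⟩ := (yon _).map_surjective (w ≫ rY)
    have hu : n₀.left ≫ Spec.map (CommRingCat.ofHom (algebraMap R R')) =
        u.left ≫ Spec.map (CommRingCat.ofHom (algebraMap R A)) :=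
      (Over.w n₀).trans (Over.w u).symm
    let l : T.left ⟶ Spec (CommRingCat.of (R' ⊗[R] A)) := pullback.lift n₀.left u.left hu ≫ (pullbackSpecIso R R' A).hom
    have hl1 : l ≫ Spec.map (CommRingCat.ofHom (Algebra.TensorProduct.includeLeftRingHom : R' →+* R' ⊗[R] A)) = n₀.left := by
      show (_ ≫ _) ≫ _ = _
      rw [Category.assoc, pullbackSpecIso_hom_fst, pullback.lift_fst]
    have hl2 : l ≫ Spec.map (CommRingCat.ofHom (algebraMap A (R' ⊗[R] A))) = u.left := by
      show (_ ≫ _) ≫ _ = _
      erw [Category.assoc, pullbackSpecIso_hom_snd, pullback.lift_snd]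
    let m : T ⟶ Over.mk (Spec.map (CommRingCat.ofHom (algebraMap A (R' ⊗[R] A))) ≫
        Spec.map (CommRingCat.ofHom (algebraMap R A))) :=
      Over.homMk l (by
        show _ ≫ _ ≫ _ = T.hom
        rw [← Category.assoc, hl2]
        exact Over.w u)
    have hm : m ≫ jX = u := by ext1; exact hl2
    have hw : (yon _).map m ≫ wX = w := by
      refine hYX.hom_ext ?_ ?_
      · rw [Category.assoc, hwX, ← Category.assoc, ← Functor.map_comp, hm, e]
      · rw [Category.assoc, hYX.lift_snd, ← Functor.map_comp, ← hn₀]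
        congr 1
        ext1
        exact hl1
    rw [← hm, Functor.map_comp, Category.assoc, hxX, ← Category.assoc, hw]

include hYU hYX in
/-- Existence and uniqueness of the glued morphism. -/
theorem existsUnique_glue_mor (hYs : IsAlgSpace Y) (hZ : IsAlgSpace Z) (hd : IsAffineMor (Limits.diag Z))
    (hp : EtGlue.IsGlueingPair R R' f)
    (hY : ∀ (A : Type u) [CommRing A] [Algebra R A] (g : (yon _).obj (specOver (R := R) A) ⟶ Y),
      RepWith @Etale g → EtGlue.IsGlueable R R' f A)
    (hYU' : IsPullback mY₁ mY₂ uY xY) (hW : mY₁ ≫ WU = mY₂ ≫ WX) :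
    ∃! φ : Y ⟶ Z, uY ≫ φ = WU ∧ xY ≫ φ = WX := by
  obtain ⟨U, p, hpe, hps, ι, A, _, _, j, hje, hcov, hje'⟩ := exists_charts hYs
  haveI := hje
  choose x hxU hxX using fun k => exists_restricts πY inU inX hYU hYX hZ hd hp hYU' hW (hY (A k) _ (hje' k))
    ((yon _).map (j k) ≫ p)
  -- agreement on overlaps over `Y`
  have agree : ∀ (k l : ι) (T : Over (Spec (CommRingCat.of R))) (m : T ⟶ specOver (R := R) (A k))
      (n : T ⟶ specOver (R := R) (A l)),
      (yon _).map m ≫ (yon _).map (j k) ≫ p = (yon _).map n ≫ (yon _).map (j l) ≫ p →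
      (yon _).map m ≫ x k = (yon _).map n ≫ x l := by
    intro k l T m n h
    let gk := (yon _).map (j k) ≫ p
    let gl := (yon _).map (j l) ≫ p
    have hk : RepWith @Etale gk := hje' k
    let Q := hk.rep.pullback gl
    let qk : Q ⟶ specOver (R := R) (A k) := hk.rep.fst' gl
    let ql : Q ⟶ specOver (R := R) (A l) := hk.rep.snd gl
    have hqk : Etale qk.left := (hje' l).property gk _ _ (hk.rep.isPullback' gl).flip
    have hq : (yon _).map qk ≫ gk = (yon _).map ql ≫ gl := by
      rw [hk.rep.map_fst' gl]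
      exact hk.rep.w gl
    let d : T ⟶ Q := hk.rep.lift' m n h
    have hd1 : d ≫ qk = m := Functor.relativelyRepresentable.lift'_fst ..
    have hd2 : d ≫ ql = n := Functor.relativelyRepresentable.lift'_snd ..
    suffices hQ : (yon _).map qk ≫ x k = (yon _).map ql ≫ x l by
      rw [← hd1, ← hd2, Functor.map_comp, Functor.map_comp, Category.assoc, Category.assoc, hQ]
    let B : Q.left.affineOpens → Type u := fun W => Γ(Q.left, W.1)
    letI algB : ∀ W, Algebra R (B W) := fun W => (Spec.preimage (W.2.fromSpec ≫ Q.hom)).hom.toAlgebra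
    let e : ∀ W, specOver (R := R) (B W) ⟶ Q := fun W =>
      Over.homMk W.2.fromSpec (Spec.map_preimage (W.2.fromSpec ≫ Q.hom)).symm
    haveI he : ∀ W, IsOpenImmersion (e W).left := fun W => (inferInstance : IsOpenImmersion W.2.fromSpec)
    refine AlgSpLib.hom_ext_of_covering _ _ (R := Sieve.generate (Presieve.ofArrows _ e)) ?_ ?_
    · refine AlgSpDec.mem_J_of_jointly e (fun q => ?_) _ fun W => Sieve.le_generate _ _ _ (Presieve.ofArrows.mk W)
      obtain ⟨W, hW, hqW, -⟩ := exists_isAffineOpen_mem_and_subset (U := (⊤ : Q.left.Opens)) (x := q) trivial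
      rw [← SetLike.mem_coe, ← hW.range_fromSpec] at hqW
      obtain ⟨v, hv⟩ := hqW
      exact ⟨⟨W, hW⟩, v, hv⟩
    · rintro T' _ ⟨_, ψ, _, ⟨W⟩, rfl⟩
      rw [Functor.map_comp, Category.assoc, Category.assoc]
      congr 1
      haveI : Etale (e W ≫ qk).left := by
        haveI := hqk
        show Etale ((e W).left ≫ qk.left)
        infer_instance
      have hglue := hY (B W) _ (repWith_etale_comp (e W ≫ qk) (hje' k))
      have hgeq : (yon _).map (e W ≫ qk) ≫ gk = (yon _).map (e W ≫ ql) ≫ gl := by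
        rw [Functor.map_comp, Functor.map_comp, Category.assoc, Category.assoc, hq]
      have := eq_of_restricts πY inU inX hYU hYX (WU := WU) (WX := WX) hZ hp hglue ((yon _).map (e W ≫ qk) ≫ gk)
        ((yon _).map (e W ≫ qk) ≫ x k) ((yon _).map (e W ≫ ql) ≫ x l) ((hxU k).comp _)
        (by rw [hgeq]; exact (hxU l).comp _) ((hxX k).comp _) (by rw [hgeq]; exact (hxX l).comp _)
      simpa only [Functor.map_comp, Category.assoc] using this
  have hcov' : ∀ u : U.left, ∃ (k : ι) (v : (specOver (R := R) (A k)).left), (j k).left v = u := fun u => by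
    obtain ⟨k, v, hv⟩ := hcov u
    exact ⟨k, v, hv⟩
  have hS : Sieve.generate (Presieve.ofArrows _ j) ∈ J _ U :=
    AlgSpDec.mem_J_of_jointly j hcov' _ fun k => Sieve.le_generate _ _ _ (Presieve.ofArrows.mk k)
  obtain ⟨z, hz⟩ := AlgSpDec.exists_amalgamation_jointly (F := Z.obj) Z.property j hcov'
    (fun k => (J _).uliftYonedaEquiv (x k)) (fun k l T a b hab => by
      rw [AlgSpLib.uliftYonedaEquiv_precomp, AlgSpLib.uliftYonedaEquiv_precomp,
        agree k l T a b (by rw [← Category.assoc, ← Functor.map_comp, hab, Functor.map_comp, Category.assoc])])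
  let xx : (yon _).obj U ⟶ Z := (J _).uliftYonedaEquiv.symm z
  have hxx : ∀ k, (yon _).map (j k) ≫ xx = x k := fun k => by
    apply (J _).uliftYonedaEquiv.injective
    rw [← AlgSpLib.uliftYonedaEquiv_precomp, Equiv.apply_symm_apply, hz]
  haveI := AlgSpLib.isLocallySurjective_of_etale_surjective hpe hps
  haveI : Epi p := AlgSpLib.epi_of_etale_surjective hpe hps
  haveI : EffectiveEpi p := by
    have := IsRegularEpiCategory.regularEpiOfEpi p
    infer_instance
  -- descent along the atlas
  have hker : (yon _).map (hpe.rep.fst' p) ≫ xx = (yon _).map (hpe.rep.snd p) ≫ xx := by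
    refine AlgSpLib.hom_ext_of_covering _ _
      ((J _).intersection_covering ((J _).pullback_stable (hpe.rep.fst' p) hS)
        ((J _).pullback_stable (hpe.rep.snd p) hS)) ?_
    rintro T θ ⟨⟨_, m, _, ⟨k⟩, hk⟩, ⟨_, n, _, ⟨l⟩, hl⟩⟩
    rw [← Category.assoc, ← Category.assoc, ← Functor.map_comp, ← Functor.map_comp, ← hk, ← hl, Functor.map_comp,
      Functor.map_comp, Category.assoc, Category.assoc, hxx, hxx]
    refine agree k l T m n ?_
    rw [← Category.assoc, ← Category.assoc, ← Functor.map_comp, ← Functor.map_comp, hk, hl, Functor.map_comp,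
      Functor.map_comp, Category.assoc, Category.assoc, hpe.rep.map_fst' p, hpe.rep.w p]
  have sq := hpe.rep.isPullback' p
  let φ : Y ⟶ Z := EffectiveEpi.desc p xx (fun g₁ g₂ h => by
    rw [← sq.lift_fst g₁ g₂ h, Category.assoc, hker, ← Category.assoc, sq.lift_snd])
  have hφ : p ≫ φ = xx := EffectiveEpi.fac ..
  have hφk : ∀ k, ((yon _).map (j k) ≫ p) ≫ φ = x k := fun k => by rw [Category.assoc, hφ, hxx]
  have lifts : ∀ {P : Sp (Spec (CommRingCat.of R))} (uP : P ⟶ Y) (W : P ⟶ Z),
      (∀ k, Restricts uP W ((yon _).map (j k) ≫ p) (x k)) → uP ≫ φ = W := by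
    intro P uP W hP
    refine hom_ext_yon _ _ fun T w => ?_
    obtain ⟨S₁, hS₁, hl₁⟩ := AlgSpLib.exists_covering_lifts p (w ≫ uP)
    refine AlgSpLib.hom_ext_of_covering _ _ hS₁ fun T₁ θ hθ => ?_
    obtain ⟨l, hl⟩ := hl₁ θ hθ
    obtain ⟨l, rfl⟩ := (yon _).map_surjective l
    refine AlgSpLib.hom_ext_of_covering _ _ ((J _).pullback_stable l hS) ?_
    rintro T₂ ψ ⟨_, m, _, ⟨k⟩, hm⟩
    have e : ((yon _).map ψ ≫ (yon _).map θ ≫ w) ≫ uP = (yon _).map m ≫ (yon _).map (j k) ≫ p := by
      rw [Category.assoc, Category.assoc, ← hl, ← Category.assoc, ← Category.assoc, ← Functor.map_comp,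
        ← Functor.map_comp, hm]
    have h2 := hP k T₂ m _ e
    rw [← hφk k, ← Category.assoc, ← e] at h2
    simpa only [Category.assoc] using h2
  refine ⟨φ, ⟨lifts uY WU hxU, lifts xY WX hxX⟩, fun ψ hψ => ?_⟩
  rw [← cancel_epi p, hφ]
  refine AlgSpLib.hom_ext_of_covering _ _ hS ?_
  rintro T _ ⟨_, m, _, ⟨k⟩, rfl⟩
  rw [Functor.map_comp, Category.assoc, Category.assoc, hxx]
  congr 1
  refine eq_of_restricts πY inU inX hYU hYX (WU := WU) (WX := WX) hZ hp (hY (A k) _ (hje' k))
    ((yon _).map (j k) ≫ p) _ _ (fun T u w e => ?_) (hxU k) (fun T u w e => ?_) (hxX k)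
  · rw [← hψ.1, ← Category.assoc w, e]
    simp only [Category.assoc]
  · rw [← hψ.2, ← Category.assoc w, e]
    simp only [Category.assoc]

end Unique

end Groth.Agent.EtGlueSp
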